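import Mathlib.GroupTheory.OrderOfElement
import Mathlib.GroupTheory.Index
import Mathlib.Data.ZMod.Basic
import Mathlib.Tactic.Abel
import Mathlib.Tactic.LinearCombination
import Mathlib.Tactic.Ring
import Mathlib.SetTheory.Cardinal.Finite

/-!
# The model `(Cₙ × Cₙ) ⋊ (C₂ × C₂)` of a Sylow 2-subgroup of `G₂(q)`, `q` odd
-/

set_option autoImplicit false
set_option linter.unusedSectionVars false
set_option linter.style.haveILetI false

namespace Cfsg.Agent.G2Fusion

/-- Elements of `(Cₙ × Cₙ) ⋊ V`: the flag `k` negates and `l` exchanges the coordinates. -/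
@[ext]
structure Mdl (n : ℕ) where
  a : ZMod n
  b : ZMod n
  k : Bool
  l : Bool

namespace Mdl

variable {n : ℕ}

/-- The sign of a flag. -/
def sgn (k : Bool) (x : ZMod n) : ZMod n := if k then -x else x

/-- The exchange of a flag, first coordinate. -/
def fs (l : Bool) (x y : ZMod n) : ZMod n := if l then y else x

instance : Mul (Mdl n) :=
  ⟨fun p q => ⟨p.a + sgn p.k (fs p.l q.a q.b), p.b + sgn p.k (fs p.l q.b q.a), xor p.k q.k, xor p.l q.l⟩⟩

instance : One (Mdl n) := ⟨⟨0, 0, false, false⟩⟩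

instance : Inv (Mdl n) :=
  ⟨fun p => ⟨-sgn p.k (fs p.l p.a p.b), -sgn p.k (fs p.l p.b p.a), p.k, p.l⟩⟩

theorem mul_def (p q : Mdl n) : p * q =
    ⟨p.a + sgn p.k (fs p.l q.a q.b), p.b + sgn p.k (fs p.l q.b q.a), xor p.k q.k, xor p.l q.l⟩ := rfl

theorem one_def : (1 : Mdl n) = ⟨0, 0, false, false⟩ := rfl

theorem inv_def (p : Mdl n) :
    p⁻¹ = ⟨-sgn p.k (fs p.l p.a p.b), -sgn p.k (fs p.l p.b p.a), p.k, p.l⟩ := rfl

instance : Group (Mdl n) where
  mul_assoc p q r := by
    obtain ⟨a, b, k, l⟩ := p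
    obtain ⟨a', b', k', l'⟩ := q
    obtain ⟨a'', b'', k'', l''⟩ := r
    cases k <;> cases l <;> cases k' <;> cases l' <;>
      ext <;> simp [mul_def, sgn, fs] <;> abel
  one_mul p := by ext <;> simp [mul_def, one_def, sgn, fs]
  mul_one p := by
    obtain ⟨a, b, k, l⟩ := p
    cases k <;> cases l <;> ext <;> simp [mul_def, one_def, sgn, fs]
  inv_mul_cancel p := by
    obtain ⟨a, b, k, l⟩ := p
    cases k <;> cases l <;> ext <;> simp [mul_def, one_def, inv_def, sgn, fs]

/-- The underlying product. -/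
def toProd : Mdl n ≃ ZMod n × ZMod n × Bool × Bool where
  toFun p := (p.a, p.b, p.k, p.l)
  invFun p := ⟨p.1, p.2.1, p.2.2.1, p.2.2.2⟩
  left_inv _ := rfl
  right_inv _ := rfl

instance [NeZero n] : Finite (Mdl n) := Finite.of_equiv _ toProd.symm

theorem card_eq : Nat.card (Mdl n) = 4 * (n * n) := by
  rw [Nat.card_congr toProd, Nat.card_prod, Nat.card_prod, Nat.card_zmod, Nat.card_prod,
    Nat.card_eq_fintype_card, Fintype.card_bool]
  ring

/-- A flag as a class modulo two. -/
def bit (k : Bool) : Multiplicative (ZMod 2) := Multiplicative.ofAdd (if k then 1 else 0)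

theorem bit_xor (k k' : Bool) : bit (xor k k') = bit k * bit k' := by
  cases k <;> cases k' <;> decide

/-- The negating flag. -/
def kHom : Mdl n →* Multiplicative (ZMod 2) where
  toFun p := bit p.k
  map_one' := rfl
  map_mul' p q := bit_xor p.k q.k

/-- The exchanging flag. -/
def lHom : Mdl n →* Multiplicative (ZMod 2) where
  toFun p := bit p.l
  map_one' := rfl
  map_mul' p q := bit_xor p.l q.l

theorem kHom_eq_one {p : Mdl n} : kHom p = 1 ↔ p.k = false := by
  show bit p.k = 1 ↔ _
  cases p.k <;> decide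

theorem lHom_eq_one {p : Mdl n} : lHom p = 1 ↔ p.l = false := by
  show bit p.l = 1 ↔ _
  cases p.l <;> decide

section parity

variable (h2 : 2 ∣ n)

/-- Reduction of a coordinate modulo two. -/
def red : ZMod n →+* ZMod 2 := ZMod.castHom h2 (ZMod 2)

/-- The parity of the sum of the coordinates. -/
def par : Mdl n →* Multiplicative (ZMod 2) where
  toFun p := Multiplicative.ofAdd (red h2 p.a + red h2 p.b)
  map_one' := by simp [one_def]
  map_mul' p q := by
    obtain ⟨a, b, k, l⟩ := p
    rw [← ofAdd_add]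
    refine congrArg Multiplicative.ofAdd ?_
    cases k <;> cases l <;> simp [mul_def, sgn, fs, ZMod.neg_eq_self_mod_two] <;> ring

theorem par_apply (p : Mdl n) : par h2 p = Multiplicative.ofAdd (red h2 p.a + red h2 p.b) := rfl

theorem par_ne_one {p : Mdl n} : par h2 p ≠ 1 ↔ red h2 p.a + red h2 p.b = 1 := by
  have key : ∀ x : ZMod 2, Multiplicative.ofAdd x ≠ 1 ↔ x = 1 := by decide
  exact key _

theorem isUnit_of_red (a : ℕ) (hn : n = 2 ^ a) {x : ZMod n} (hx : red h2 x ≠ 0) : IsUnit x := by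
  have : NeZero n := ⟨hn ▸ pow_ne_zero a two_ne_zero⟩
  rw [← ZMod.natCast_zmod_val x] at hx ⊢
  rw [map_natCast] at hx
  rw [ZMod.isUnit_iff_coprime]
  have hc : x.val.Coprime 2 := by
    rw [Nat.coprime_comm, Nat.prime_two.coprime_iff_not_dvd]
    exact fun h => hx ((ZMod.natCast_eq_zero_iff _ _).2 h)
  have h := Nat.Coprime.pow_right a hc
  rwa [← hn] at h

end parity

/-- The abelian subgroup. -/
def A : Subgroup (Mdl n) where
  carrier := {p | p.k = false ∧ p.l = false}
  one_mem' := ⟨rfl, rfl⟩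
  mul_mem' {p q} hp hq := by simp [mul_def, hp.1, hp.2, hq.1, hq.2]
  inv_mem' hp := hp

theorem mem_A {p : Mdl n} : p ∈ A ↔ p.k = false ∧ p.l = false := Iff.rfl

theorem A_comm {p q : Mdl n} (hp : p ∈ A) (hq : q ∈ A) : p * q = q * p := by
  ext <;> simp [mul_def, sgn, fs, hp.1, hp.2, hq.1, hq.2, add_comm]

/-- The abelian subgroup as pairs. -/
def AEquiv : (A : Subgroup (Mdl n)) ≃ ZMod n × ZMod n where
  toFun p := (p.1.a, p.1.b)
  invFun v := ⟨⟨v.1, v.2, false, false⟩, rfl, rfl⟩
  left_inv p := Subtype.ext (by ext <;> simp [p.2.1, p.2.2])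
  right_inv _ := rfl

theorem card_A : Nat.card (A : Subgroup (Mdl n)) = n * n := by
  rw [Nat.card_congr AEquiv, Nat.card_prod, Nat.card_zmod]

theorem pow_A {p : Mdl n} (hp : p ∈ A) (j : ℕ) : p ^ j = ⟨j * p.a, j * p.b, false, false⟩ := by
  induction j with
  | zero => simp [one_def]
  | succ j ih => rw [pow_succ, ih]; ext <;> simp [mul_def, sgn, fs, hp.1, hp.2] <;> ring

/-- The half of the modulus. -/
def half (n : ℕ) : ZMod n := ((n / 2 : ℕ) : ZMod n)

theorem two_half (h2 : 2 ∣ n) : half n + half n = 0 := by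
  rw [half, ← Nat.cast_add, ← two_mul, Nat.mul_div_cancel' h2, ZMod.natCast_self]

theorem half_ne_zero (h2 : 2 ∣ n) [NeZero n] : half n ≠ 0 := by
  rw [half, Ne, ZMod.natCast_eq_zero_iff]
  intro h
  have := Nat.le_of_dvd (by have := NeZero.pos n; omega) h
  have := NeZero.pos n
  omega

theorem eq_zero_or_half (h2 : 2 ∣ n) [NeZero n] {x : ZMod n} (hx : x + x = 0) :
    x = 0 ∨ x = half n := by
  rw [← ZMod.natCast_zmod_val x] at hx ⊢
  have hlt := ZMod.val_lt x
  rw [← Nat.cast_add, ZMod.natCast_eq_zero_iff] at hx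
  obtain ⟨c, hc⟩ := hx
  rcases c with _ | _ | c
  · left; rw [show x.val = 0 by omega, Nat.cast_zero]
  · right; rw [half]; congr 1; omega
  · exfalso
    have : n * 2 ≤ n * (c + 1 + 1) := Nat.mul_le_mul_left _ (by omega)
    omega

theorem card_two_torsion (h2 : 2 ∣ n) [NeZero n] : Nat.card {x : ZMod n // x + x = 0} ≤ 2 := by
  classical
  refine le_trans (Nat.card_le_card_of_injective (fun x => decide (x.1 = 0)) fun x y hxy => ?_)
    (by rw [Nat.card_eq_fintype_card, Fintype.card_bool])
  rcases eq_zero_or_half h2 x.2 with hx | hx <;> rcases eq_zero_or_half h2 y.2 with hy | hy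
  · exact Subtype.ext (hx.trans hy.symm)
  · simp [hx, hy, half_ne_zero h2] at hxy
  · simp [hx, hy, half_ne_zero h2] at hxy
  · exact Subtype.ext (hx.trans hy.symm)

theorem sq_eq_one_iff_A {p : Mdl n} (hp : p ∈ A) : p * p = 1 ↔ p.a + p.a = 0 ∧ p.b + p.b = 0 := by
  simp [Mdl.ext_iff, mul_def, one_def, sgn, fs, hp.1, hp.2]

variable {a : ℕ} (ha : 2 ≤ a) (hn : n = 2 ^ a)
include ha hn

theorem four_le : 4 ≤ n := hn ▸ (show 2 ^ 2 ≤ 2 ^ a from Nat.pow_le_pow_right (by norm_num) ha)

theorem two_dvd : 2 ∣ n := hn ▸ dvd_pow_self 2 (by omega)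

theorem abelian_eq_A {B : Subgroup (Mdl n)} (hB : ∀ x ∈ B, ∀ y ∈ B, x * y = y * x)
    (hcard : Nat.card B = n * n) : B = A := by
  have h2 := two_dvd ha hn
  have h4 := four_le ha hn
  haveI : NeZero n := ⟨by omega⟩
  let π : B →* Multiplicative (ZMod 2) × Multiplicative (ZMod 2) := (kHom.prod lHom).comp B.subtype
  have hker : ∀ x, x ∈ π.ker ↔ x.1.k = false ∧ x.1.l = false := fun x => by
    rw [MonoidHom.mem_ker]
    show (kHom x.1, lHom x.1) = 1 ↔ _
    rw [Prod.mk_eq_one, kHom_eq_one, lHom_eq_one]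
  have hmul : Nat.card π.ker * Nat.card π.range = n * n := by
    rw [← hcard, ← π.ker.card_mul_index, Subgroup.index_ker]
  haveI : Finite (Multiplicative (ZMod 2)) := Finite.of_equiv _ Multiplicative.ofAdd
  have hV : Nat.card (Multiplicative (ZMod 2) × Multiplicative (ZMod 2)) = 4 := by
    rw [Nat.card_prod, Nat.card_congr Multiplicative.toAdd, Nat.card_zmod]
  by_cases hboth : (∃ x ∈ B, x.k = false ∧ x.l = true) ∧ ∃ y ∈ B, y.k = true ∧ y.l = true
  · exfalso
    obtain ⟨⟨x, hx, hxk, hxl⟩, y, hy, hyk, hyl⟩ := hboth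
    have hK : Nat.card π.ker ≤ 2 := by
      have hmem : ∀ m : π.ker, m.1.1.a = m.1.1.b ∧ m.1.1.a + m.1.1.a = 0 := fun m => by
        obtain ⟨hk, hl⟩ := (hker m.1).1 m.2
        have e1 := congrArg Mdl.a (hB x hx _ m.1.2)
        have e2 := congrArg Mdl.a (hB y hy _ m.1.2)
        simp [mul_def, sgn, fs, hxk, hxl, hk, hl] at e1
        simp [mul_def, sgn, fs, hyk, hyl, hk, hl] at e2
        exact ⟨by linear_combination -e1, by linear_combination -e1 - e2⟩
      refine le_trans (Nat.card_le_card_of_injective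
        (fun m => (⟨m.1.1.a, (hmem m).2⟩ : {x : ZMod n // x + x = 0})) fun m m' h => ?_) (card_two_torsion h2)
      have h' := congrArg Subtype.val h
      refine Subtype.ext (Subtype.ext (Mdl.ext h' ?_ ?_ ?_))
      · rw [← (hmem m).1, ← (hmem m').1]; exact h'
      · rw [((hker m.1).1 m.2).1, ((hker m'.1).1 m'.2).1]
      · rw [((hker m.1).1 m.2).2, ((hker m'.1).1 m'.2).2]
    have hR : Nat.card π.range ≤ 4 := (Subgroup.card_le_card_group _).trans hV.le
    have := Nat.mul_le_mul hK hR
    have := Nat.mul_le_mul h4 h4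
    omega
  · have hR : Nat.card π.range ≤ 2 := by
      obtain ⟨t, ht⟩ : ∃ t, t ∉ π.range := by
        by_contra hall
        push Not at hall
        refine hboth ⟨?_, ?_⟩
        · obtain ⟨x, hx⟩ := hall (1, bit true)
          refine ⟨x.1, x.2, kHom_eq_one.1 (congrArg Prod.fst hx), ?_⟩
          by_contra hl
          rw [Bool.not_eq_true, ← lHom_eq_one] at hl
          exact absurd ((congrArg Prod.snd hx).symm.trans hl) (by decide)
        · obtain ⟨x, hx⟩ := hall (bit true, bit true)
          refine ⟨x.1, x.2, ?_, ?_⟩ <;> by_contra hl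
          · rw [Bool.not_eq_true, ← kHom_eq_one] at hl
            exact absurd ((congrArg Prod.fst hx).symm.trans hl) (by decide)
          · rw [Bool.not_eq_true, ← lHom_eq_one] at hl
            exact absurd ((congrArg Prod.snd hx).symm.trans hl) (by decide)
      have hdvd : Nat.card π.range ∣ 4 := hV ▸ Subgroup.card_subgroup_dvd_card π.range
      have hne : Nat.card π.range ≠ 4 := fun h => ht (by
        rw [Subgroup.eq_top_of_card_eq π.range (h.trans hV.symm)]; trivial)
      have hle := Nat.le_of_dvd (by norm_num) hdvd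
      rcases (by omega : Nat.card π.range = 0 ∨ Nat.card π.range = 1 ∨ Nat.card π.range = 2 ∨
        Nat.card π.range = 3) with h | h | h | h <;> rw [h] at hdvd <;> omega
    by_cases hle : B ≤ A
    · exact Subgroup.eq_of_le_of_card_ge hle (by rw [hcard, card_A])
    exfalso
    obtain ⟨x, hx, hxA⟩ := SetLike.not_le_iff_exists.1 hle
    have hK : Nat.card π.ker ≤ n := by
      rw [mem_A, not_and_or, Bool.not_eq_false, Bool.not_eq_false] at hxA
      obtain ⟨xa, xb, xk, xl⟩ := x
      have hrel : ∀ m : π.ker, (xl = true → m.1.1.b = sgn xk m.1.1.a) ∧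
          (xl = false → m.1.1.a + m.1.1.a = 0 ∧ m.1.1.b + m.1.1.b = 0) := fun m => by
        obtain ⟨hk, hl⟩ := (hker m.1).1 m.2
        have e1 := congrArg Mdl.a (hB _ hx _ m.1.2)
        have e2 := congrArg Mdl.b (hB _ hx _ m.1.2)
        cases xk <;> cases xl <;> simp_all [mul_def, sgn, fs]
        · linear_combination e1
        · exact ⟨by linear_combination -e1, by linear_combination -e2⟩
        · linear_combination -e1
      cases xl
      · refine le_trans (Nat.card_le_card_of_injective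
          (fun m => ((⟨m.1.1.a, ((hrel m).2 rfl).1⟩, ⟨m.1.1.b, ((hrel m).2 rfl).2⟩) :
            {x : ZMod n // x + x = 0} × {x : ZMod n // x + x = 0})) fun m m' h => ?_) ?_
        · refine Subtype.ext (Subtype.ext (Mdl.ext (congrArg (fun p => p.1.1) h)
            (congrArg (fun p => p.2.1) h) ?_ ?_))
          · rw [((hker m.1).1 m.2).1, ((hker m'.1).1 m'.2).1]
          · rw [((hker m.1).1 m.2).2, ((hker m'.1).1 m'.2).2]
        · rw [Nat.card_prod]
          have := Nat.mul_le_mul (card_two_torsion (n := n) h2) (card_two_torsion (n := n) h2)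
          omega
      · refine le_trans (Nat.card_le_card_of_injective (fun m => m.1.1.a) fun m m' h => ?_)
          (Nat.card_zmod n).le
        refine Subtype.ext (Subtype.ext (Mdl.ext h ?_ ?_ ?_))
        · rw [(hrel m).1 rfl, (hrel m').1 rfl]; exact congrArg _ h
        · rw [((hker m.1).1 m.2).1, ((hker m'.1).1 m'.2).1]
        · rw [((hker m.1).1 m.2).2, ((hker m'.1).1 m'.2).2]
    have := Nat.mul_le_mul hK hR
    have := Nat.mul_le_mul_right n h4
    omega

/-- An element of odd parity is an involution or has order at least `n`. -/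
theorem odd_order {p : Mdl n} (hp : par (two_dvd ha hn) p ≠ 1) : p * p = 1 ∨ n ≤ orderOf p := by
  set h2 := two_dvd ha hn
  haveI : NeZero n := ⟨by have := four_le ha hn; omega⟩
  rw [par_ne_one] at hp
  have key : ∀ q : Mdl n, q ∈ A → (IsUnit q.a ∨ IsUnit q.b) → n ≤ orderOf q := by
    intro q hq hu
    refine Nat.le_of_dvd (orderOf_pos q) ?_
    have e := pow_orderOf_eq_one q
    rw [pow_A hq, one_def, Mdl.mk.injEq] at e
    rcases hu with hu | hu
    · exact (ZMod.natCast_eq_zero_iff _ _).1 (hu.mul_left_eq_zero.1 e.1)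
    · exact (ZMod.natCast_eq_zero_iff _ _).1 (hu.mul_left_eq_zero.1 e.2.1)
  have hle : orderOf (p * p) ≤ orderOf p := by
    rw [← sq]; exact Nat.le_of_dvd (orderOf_pos p) (orderOf_pow_dvd _)
  obtain ⟨pa, pb, pk, pl⟩ := p
  simp only at hp
  cases pl <;> cases pk
  · refine Or.inr (key _ ⟨rfl, rfl⟩ ?_)
    by_cases ha0 : red h2 pa = 0
    · exact Or.inr (isUnit_of_red h2 a hn (by rw [ha0, zero_add] at hp; rw [hp]; decide))
    · exact Or.inl (isUnit_of_red h2 a hn ha0)
  · exact Or.inl (by ext <;> simp [mul_def, one_def, sgn, fs])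
  · refine Or.inr (le_trans (key _ ⟨rfl, rfl⟩ (Or.inl ?_)) hle)
    refine isUnit_of_red h2 a hn ?_
    simp [mul_def, sgn, fs, hp]
  · refine Or.inr (le_trans (key _ ⟨rfl, rfl⟩ (Or.inl ?_)) hle)
    refine isUnit_of_red h2 a hn ?_
    simp [mul_def, sgn, fs, ZMod.neg_eq_self_mod_two, hp]

/-- An involution of odd parity commutes only with elements squaring to one. -/
theorem odd_comm {p q : Mdl n} (hp : par (two_dvd ha hn) p ≠ 1) (hp2 : p * p = 1)
    (hq : p * q = q * p) : q * q = 1 := by
  set h2 := two_dvd ha hn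
  rw [par_ne_one] at hp
  obtain ⟨pa, pb, pk, pl⟩ := p
  obtain ⟨qa, qb, qk, ql⟩ := q
  simp only at hp
  have ea := congrArg (fun x : Mdl n => red h2 x.a) hp2
  have eA := congrArg Mdl.a hp2
  have eB := congrArg Mdl.b hp2
  cases pl <;> cases pk <;> simp [mul_def, one_def, sgn, fs] at ea eA eB
  · -- `p` lies in the abelian subgroup
    exfalso
    have hx : ∀ x : ZMod n, x + x = 0 → red h2 x = 0 := by
      haveI : NeZero n := ⟨by have := four_le ha hn; omega⟩
      intro x hx
      rcases eq_zero_or_half h2 hx with rfl | rfl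
      · exact map_zero _
      · rw [half, map_natCast, ZMod.natCast_eq_zero_iff, hn]
        exact ⟨2 ^ (a - 2), by obtain ⟨c, rfl⟩ : ∃ c, a = c + 2 := ⟨a - 2, by omega⟩; simp [pow_succ]; omega⟩
    rw [hx _ eA, hx _ eB] at hp
    exact absurd hp (by decide)
  · have e1 := congrArg Mdl.a hq
    have e2 := congrArg Mdl.b hq
    cases qk <;> cases ql <;> simp [mul_def, sgn, fs] at e1 e2
    · ext <;> simp [mul_def, one_def, sgn, fs]
      · linear_combination -e1
      · linear_combination -e2
    · exfalso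
      have := congrArg (red h2) e1
      simp [ZMod.neg_eq_self_mod_two] at this
      rw [add_comm (red h2 qa), add_left_inj] at this
      rw [this, ← two_mul, show (2 : ZMod 2) = 0 by decide, zero_mul] at hp
      exact absurd hp (by decide)
    · ext <;> simp [mul_def, one_def, sgn, fs]
    · exfalso
      have := congrArg (red h2) e1
      simp [ZMod.neg_eq_self_mod_two] at this
      rw [add_comm (red h2 qa), add_left_inj] at this
      rw [this, ← two_mul, show (2 : ZMod 2) = 0 by decide, zero_mul] at hp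
      exact absurd hp (by decide)
  · exfalso; rw [hp] at ea; exact absurd ea (by decide)
  · exfalso; rw [hp] at ea; exact absurd ea (by decide)

/-! ### The involutions -/

omit ha hn

/-- The diagonal involution of the abelian subgroup. -/
def z (n : ℕ) : Mdl n := ⟨half n, half n, false, false⟩

/-- An involution of the abelian subgroup moved by the exchange. -/
def e (n : ℕ) : Mdl n := ⟨half n, 0, false, false⟩

/-- The exchanging involution. -/
def r0 (n : ℕ) : Mdl n := ⟨0, 0, false, true⟩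

theorem involution_A (h2 : 2 ∣ n) [NeZero n] {p : Mdl n} (hp : p ∈ A) (h : p * p = 1) :
    p = 1 ∨ p = z n ∨ p = e n ∨ p = r0 n * e n * (r0 n)⁻¹ := by
  obtain ⟨ha', hb'⟩ := (sq_eq_one_iff_A hp).1 h
  obtain ⟨pa, pb, pk, pl⟩ := p
  obtain ⟨rfl, rfl⟩ : pk = false ∧ pl = false := hp
  rcases eq_zero_or_half h2 ha' with h1 | h1 <;> rcases eq_zero_or_half h2 hb' with h3 | h3 <;>
    simp only at h1 h3 <;> subst h1 h3
  · exact Or.inl rfl
  · exact Or.inr (Or.inr (Or.inr (by simp [r0, e, mul_def, inv_def, sgn, fs])))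
  · exact Or.inr (Or.inr (Or.inl rfl))
  · exact Or.inr (Or.inl rfl)

/-- An involution that exchanges without negating is conjugate to `r0`. -/
theorem conj_r0 {p : Mdl n} (hk : p.k = false) (hl : p.l = true) (h : p * p = 1) :
    ∃ c : Mdl n, c * r0 n * c⁻¹ = p := by
  obtain ⟨pa, pb, pk, pl⟩ := p
  simp only at hk hl
  subst hk hl
  have h1 := congrArg Mdl.a h
  simp [mul_def, one_def, sgn, fs] at h1
  refine ⟨⟨pa, 0, false, false⟩, ?_⟩
  ext <;> simp [r0, mul_def, inv_def, sgn, fs]
  linear_combination -h1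

theorem cent_r0_ge [NeZero n] : 4 * n ≤ Nat.card {q : Mdl n // q * r0 n = r0 n * q} := by
  have h : Nat.card (ZMod n × Bool × Bool) = 4 * n := by
    rw [Nat.card_prod, Nat.card_prod, Nat.card_zmod, Nat.card_eq_fintype_card, Fintype.card_bool]; ring
  rw [← h]
  refine Nat.card_le_card_of_injective (fun x => ⟨⟨x.1, x.1, x.2.1, x.2.2⟩, ?_⟩) fun x y hxy => ?_
  · obtain ⟨c, k, l⟩ := x
    cases k <;> cases l <;> simp [r0, mul_def, sgn, fs]
  · have := congrArg Subtype.val hxy
    simp only [Mdl.mk.injEq] at this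
    exact Prod.ext this.1 (Prod.ext this.2.2.1 this.2.2.2)

theorem cent_neg_le (h2 : 2 ∣ n) [NeZero n] {p : Mdl n} (hk : p.k = true) (hl : p.l = false) :
    Nat.card {q : Mdl n // q * p = p * q} ≤ 16 := by
  classical
  have hdet : ∀ x y : ZMod n, x + x = y + y → decide (x.val < n / 2) = decide (y.val < n / 2) → x = y := by
    intro x y hxy hlt
    rcases eq_zero_or_half h2 (x := x - y) (by linear_combination hxy) with h0 | h0
    · exact sub_eq_zero.1 h0
    · exfalso
      have hx : x = y + half n := by linear_combination h0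
      have hv := congrArg ZMod.val hx
      have hy := ZMod.val_lt y
      rw [ZMod.val_add, half, ZMod.val_natCast, Nat.mod_eq_of_lt (a := n / 2) (by omega)] at hv
      rw [decide_eq_decide] at hlt
      rcases Nat.lt_or_ge (y.val + n / 2) n with h3 | h3
      · rw [Nat.mod_eq_of_lt h3] at hv; omega
      · rw [Nat.mod_eq_sub_mod h3, Nat.mod_eq_of_lt (by omega)] at hv; omega
  refine le_trans (Nat.card_le_card_of_injective
    (fun q => (q.1.k, q.1.l, decide (q.1.a.val < n / 2), decide (q.1.b.val < n / 2))) fun q q' h => ?_)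
    (by simp)
  obtain ⟨⟨qa, qb, qk, ql⟩, hq⟩ := q
  obtain ⟨⟨qa', qb', qk', ql'⟩, hq'⟩ := q'
  simp only [Prod.mk.injEq] at h
  obtain ⟨rfl, rfl, h3, h4⟩ := h
  obtain ⟨pa, pb, pk, pl⟩ := p
  simp only at hk hl
  subst hk hl
  have e1 := congrArg Mdl.a hq
  have e2 := congrArg Mdl.b hq
  have e1' := congrArg Mdl.a hq'
  have e2' := congrArg Mdl.b hq'
  simp [mul_def, sgn, fs] at e1 e2 e1' e2'
  exact Subtype.ext (Mdl.ext (hdet _ _ (by linear_combination e1 - e1') h3)
    (hdet _ _ (by linear_combination e2 - e2') h4) rfl rfl)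

end Mdl

end Cfsg.Agent.G2Fusion
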