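import Cfsg.Agent.Lib.G2Fusion.Transfer
import Cfsg.Agent.Lib.G2Fusion.Model
import Mathlib.GroupTheory.Subgroup.Simple

/-!
# Fusion of involutions in a simple group with a Sylow 2-subgroup `(Cₙ × Cₙ) ⋊ (C₂ × C₂)`
-/

set_option autoImplicit false
set_option linter.style.haveILetI false
set_option linter.unusedSectionVars false

namespace Cfsg.Agent.G2Fusion

open Subgroup

variable {G : Type*} [Group G] [Finite G]

/-- A simple group of order above two has only the trivial map to a group of order two. -/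
theorem hom_eq_one [IsSimpleGroup G] (hG : 2 < Nat.card G) (f : G →* Multiplicative (ZMod 2)) :
    f = 1 := by
  rcases IsSimpleGroup.eq_bot_or_eq_top_of_normal f.ker inferInstance with h | h
  · exfalso
    have := Nat.card_le_card_of_injective f ((MonoidHom.ker_eq_bot_iff f).1 h)
    rw [Nat.card_congr Multiplicative.toAdd, Nat.card_zmod] at this
    omega
  · exact MonoidHom.ext fun x => MonoidHom.mem_ker.1 (h ▸ mem_top x)

theorem involution_classes [IsSimpleGroup G] (S : Sylow 2 G) {n a : ℕ} (ha : 2 ≤ a) (hn : n = 2 ^ a)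
    (φ : (S : Subgroup G) ≃* Mdl n) :
    (∀ x y : G, orderOf x = 2 → orderOf y = 2 → IsConj x y) ∨
      (Nat.card (S : Subgroup G) = 64 ∧ ∃ x y : G, orderOf x = 2 ∧ orderOf y = 2 ∧ ¬ IsConj x y ∧
        ∀ z : G, orderOf z = 2 → IsConj z x ∨ IsConj z y) := by
  classical
  haveI : Fact (Nat.Prime 2) := ⟨Nat.prime_two⟩
  have h2 := Mdl.two_dvd ha hn
  have h4 := Mdl.four_le ha hn
  haveI : NeZero n := ⟨by omega⟩
  have hcard : Nat.card (S : Subgroup G) = 4 * (n * n) := by
    rw [Nat.card_congr φ.toEquiv, Mdl.card_eq]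
  have hhom : ∀ f : G →* Multiplicative (ZMod 2), f = 1 := hom_eq_one (by
    have := Nat.le_of_dvd Nat.card_pos (Subgroup.card_subgroup_dvd_card (S : Subgroup G))
    have := Nat.mul_le_mul h4 h4
    omega)
  set ι : Mdl n →* G := (S : Subgroup G).subtype.comp φ.symm.toMonoidHom with hι
  have hinj : Function.Injective ι := (S : Subgroup G).subtype_injective.comp φ.symm.injective
  have hιS : ∀ m, ι m ∈ (S : Subgroup G) := fun m => (φ.symm m).2
  have hφ : ∀ m (h : ι m ∈ (S : Subgroup G)), φ ⟨ι m, h⟩ = m := fun m h => φ.apply_symm_apply m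
  have hsurj : ∀ g, ∀ h : g ∈ (S : Subgroup G), ι (φ ⟨g, h⟩) = g := fun g h => by
    show ((φ.symm (φ ⟨g, h⟩) : (S : Subgroup G)) : G) = g
    rw [φ.symm_apply_apply]
  -- the abelian subgroup is weakly closed in `S`
  have hweak : ∀ g : G, (∀ m ∈ Mdl.A, g⁻¹ * ι m * g ∈ (S : Subgroup G)) →
      ∀ m ∈ Mdl.A, ∃ m' ∈ Mdl.A, g⁻¹ * ι m * g = ι m' := by
    intro g hg m hm
    let ψ : (Mdl.A : Subgroup (Mdl n)) →* Mdl n :=
      { toFun := fun x => φ ⟨g⁻¹ * ι x.1 * g, hg x.1 x.2⟩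
        map_one' := by
          rw [← φ.map_one]
          refine congrArg φ (Subtype.ext ?_)
          show g⁻¹ * ι 1 * g = 1
          rw [map_one, mul_one, inv_mul_cancel]
        map_mul' := fun x y => by
          rw [← φ.map_mul]
          refine congrArg φ (Subtype.ext ?_)
          show g⁻¹ * ι (x.1 * y.1) * g = g⁻¹ * ι x.1 * g * (g⁻¹ * ι y.1 * g)
          rw [map_mul]; group }
    have hψ : Function.Injective ψ := fun x y h => Subtype.ext (hinj (mul_left_cancel (mul_right_cancel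
      (congrArg Subtype.val (φ.injective h)))))
    have hA : ψ.range = Mdl.A := by
      refine Mdl.abelian_eq_A ha hn ?_ ?_
      · rintro _ ⟨x, rfl⟩ _ ⟨y, rfl⟩
        rw [← map_mul, ← map_mul]
        exact congrArg ψ (Subtype.ext (Mdl.A_comm x.2 y.2))
      · rw [← Nat.card_congr (MonoidHom.ofInjective hψ).toEquiv, Mdl.card_A]
    refine ⟨ψ ⟨m, hm⟩, hA.le ⟨_, rfl⟩, ?_⟩
    exact (hsurj _ _).symm
  -- the fusion of the involutions of the abelian subgroup
  have hzA : Mdl.z n ∈ Mdl.A := ⟨rfl, rfl⟩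
  have heA : Mdl.e n ∈ Mdl.A := ⟨rfl, rfl⟩
  have hAinv : ∀ m, m * m = 1 → m ∈ Mdl.A → m ≠ 1 → IsConj (ι m) (ι (Mdl.z n)) := by
    have hswap : IsConj (ι (Mdl.e n)) (ι (Mdl.r0 n * Mdl.e n * (Mdl.r0 n)⁻¹)) :=
      isConj_iff.2 ⟨ι (Mdl.r0 n), by rw [map_mul, map_mul, map_inv]⟩
    suffices hez : IsConj (ι (Mdl.e n)) (ι (Mdl.z n)) by
      intro m hm hmA hm1
      rcases Mdl.involution_A h2 hmA hm with rfl | rfl | rfl | rfl
      · exact absurd rfl hm1
      · exact IsConj.refl _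
      · exact hez
      · exact hswap.symm.trans hez
    by_contra hez
    -- every `g` carrying the abelian subgroup into `S` then centralises `z`
    have hfix : ∀ g : G, (∀ m ∈ Mdl.A, g⁻¹ * ι m * g ∈ (S : Subgroup G)) →
        g⁻¹ * ι (Mdl.z n) * g = ι (Mdl.z n) := by
      intro g hg
      obtain ⟨m, hmA, hm⟩ := hweak g hg _ hzA
      have hcj : IsConj (ι (Mdl.z n)) (ι m) := isConj_iff.2 ⟨g⁻¹, by rw [inv_inv]; exact hm⟩
      have hzz : Mdl.z n * Mdl.z n = 1 :=
        (Mdl.sq_eq_one_iff_A hzA).2 ⟨Mdl.two_half h2, Mdl.two_half h2⟩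
      have hmm : m * m = 1 := hinj (by
        rw [map_mul, map_one, ← hm]
        calc g⁻¹ * ι (Mdl.z n) * g * (g⁻¹ * ι (Mdl.z n) * g)
            = g⁻¹ * (ι (Mdl.z n) * ι (Mdl.z n)) * g := by group
          _ = 1 := by rw [← map_mul, hzz, map_one, mul_one, inv_mul_cancel])
      rcases Mdl.involution_A h2 hmA hmm with rfl | rfl | rfl | rfl
      · exfalso
        rw [map_one, isConj_one_left] at hcj
        exact Mdl.half_ne_zero h2 (congrArg Mdl.a (hinj (hcj.trans ι.map_one.symm)))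
      · exact hm
      · exact absurd hcj.symm hez
      · exact absurd (hcj.trans hswap.symm).symm hez
    -- hence the parity survives and the transfer is non-trivial
    let y : Mdl n := ⟨1, 0, false, false⟩
    have hyA : y ∈ Mdl.A := ⟨rfl, rfl⟩
    have hyn : orderOf y = n := by
      rw [orderOf_eq_iff (by omega)]
      refine ⟨by rw [Mdl.pow_A hyA]; simp [y, Mdl.one_def], fun j hj hj0 h => ?_⟩
      rw [Mdl.pow_A hyA, Mdl.one_def, Mdl.mk.injEq] at h
      have : n ∣ j := (ZMod.natCast_eq_zero_iff _ _).1 (by simpa [y] using h.1)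
      exact absurd (Nat.le_of_dvd hj0 this) (not_le.2 hj)
    have hun : orderOf (ι y) = n := by rw [orderOf_injective ι hinj, hyn]
    refine (exists_hom_ne_one S ((Mdl.par h2).comp φ.toMonoidHom) (ι y) ⟨a, hun.trans hn⟩
      (Mdl.A.map ι) (S.2.to_le (by rintro _ ⟨m, -, rfl⟩; exact hιS m)) ⟨y, hyA, rfl⟩
      (by rintro _ ⟨m, hm, rfl⟩; rw [← map_mul, ← map_mul, Mdl.A_comm hm hyA])
      (fun g hg h => ?_) (fun g i hi hne hle h => ?_)).elim fun f hf => hf (by rw [hhom f]; rfl)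
    · have hg' : ∀ m ∈ Mdl.A, g⁻¹ * ι m * g ∈ (S : Subgroup G) := fun m hm => hg _ ⟨m, hm, rfl⟩
      obtain ⟨m, hmA, hm⟩ := hweak g hg' y hyA
      show Mdl.par h2 (φ ⟨_, h⟩) ≠ 1
      rw [show (⟨_, h⟩ : (S : Subgroup G)) = ⟨ι m, hιS m⟩ from Subtype.ext hm, hφ]
      intro hpar
      -- raise to half the modulus
      have hye : y ^ (n / 2) = Mdl.e n := by
        rw [Mdl.pow_A hyA]; simp [y, Mdl.e, Mdl.half]
      have hme : m ^ (n / 2) = 1 ∨ m ^ (n / 2) = Mdl.z n := by
        have hpar' : Mdl.red h2 m.a = Mdl.red h2 m.b := by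
          have key : ∀ u v : ZMod 2, Multiplicative.ofAdd (u + v) = 1 → u = v := by decide
          exact key _ _ hpar
        have hh : ∀ u : ZMod n, ((n / 2 : ℕ) : ZMod n) * u = if Mdl.red h2 u = 0 then 0 else Mdl.half n := by
          intro u
          rw [← ZMod.natCast_zmod_val u, map_natCast, ← Nat.cast_mul]
          split_ifs with hu
          · obtain ⟨c, hc⟩ := (ZMod.natCast_eq_zero_iff _ _).1 hu
            rw [hc, ← mul_assoc, Nat.div_mul_cancel h2, Nat.cast_mul, ZMod.natCast_self, zero_mul]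
          · rw [ZMod.natCast_eq_zero_iff] at hu
            obtain ⟨c, hc⟩ : ∃ c, u.val = 2 * c + 1 := ⟨u.val / 2, by omega⟩
            rw [hc, mul_add, ← mul_assoc, Nat.div_mul_cancel h2, mul_one, Nat.cast_add, Nat.cast_mul,
              ZMod.natCast_self, zero_mul, zero_add, Mdl.half]
        rw [Mdl.pow_A hmA, hh, hh, ← hpar']
        by_cases h0 : Mdl.red h2 m.a = 0 <;> simp [h0, Mdl.one_def, Mdl.z]
      have hconj : g⁻¹ * ι (Mdl.e n) * g = ι (m ^ (n / 2)) := by
        rw [map_pow, ← hm, ← hye, map_pow]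
        simpa using (conj_pow (i := n / 2) (a := g⁻¹) (b := ι y)).symm
      rcases hme with hme | hme
      · rw [hme, map_one] at hconj
        have : ι (Mdl.e n) = ι 1 := by
          rw [map_one, show ι (Mdl.e n) = g * (g⁻¹ * ι (Mdl.e n) * g) * g⁻¹ by group, hconj]
          group
        exact Mdl.half_ne_zero h2 (congrArg Mdl.a (hinj this))
      · rw [hme, ← hfix g hg'] at hconj
        have := congrArg Mdl.b (hinj (mul_left_cancel (mul_right_cancel hconj)))
        exact Mdl.half_ne_zero h2 this.symm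
    · show Mdl.par h2 (φ ⟨_, h⟩) = 1
      set w := φ ⟨_, h⟩ with hw
      by_contra hp
      have how : orderOf w = orderOf (ι y ^ 2 ^ i) := by
        rw [hw, MulEquiv.orderOf_eq φ, ← Subgroup.orderOf_coe]
        show orderOf (g⁻¹ * ι y ^ 2 ^ i * g) = _
        rw [show g⁻¹ * ι y ^ 2 ^ i * g = MulAut.conj g⁻¹ (ι y ^ 2 ^ i) by
          rw [MulAut.conj_apply, inv_inv], MulEquiv.orderOf_eq]
      have hlt : orderOf w < n := by
        rw [how, orderOf_pow' _ (pow_ne_zero i two_ne_zero), hun]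
        refine Nat.div_lt_self (by omega) ?_
        have hd : 2 ∣ Nat.gcd n (2 ^ i) := Nat.dvd_gcd h2 (dvd_pow_self 2 hi.ne')
        exact lt_of_lt_of_le one_lt_two (Nat.le_of_dvd (Nat.gcd_pos_of_pos_left _ (by omega)) hd)
      have hw2 : w * w = 1 := (Mdl.odd_order ha hn hp).resolve_right (by omega)
      have hi2 : 2 ^ i ≤ n / 2 := by
        have hdw : orderOf w ∣ 2 := orderOf_dvd_of_pow_eq_one (by rw [sq, hw2])
        have hne' : ¬ n ∣ 2 ^ i := fun h => hne (by rw [← orderOf_dvd_iff_pow_eq_one, hun]; exact h)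
        rw [hn] at hne' ⊢
        have hia : i < a := by
          by_contra hia
          exact hne' (pow_dvd_pow 2 (not_lt.1 hia))
        obtain ⟨c, rfl⟩ : ∃ c, a = c + 1 := ⟨a - 1, by omega⟩
        rw [pow_succ, Nat.mul_div_cancel _ two_pos]
        exact Nat.pow_le_pow_right two_pos (by omega)
      -- some element of order above two is carried to one commuting with `w`
      obtain ⟨b, hb⟩ : ∃ b : {b : Mdl.A.map ι // g⁻¹ * (b : G) * g ∈ (S : Subgroup G)},
          (b.1 : G) * b.1 ≠ 1 := by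
        by_contra hall
        push Not at hall
        have hB : Nat.card {b : Mdl.A.map ι // g⁻¹ * (b : G) * g ∈ (S : Subgroup G)} ≤ 4 := by
          have hex : ∀ b : {b : Mdl.A.map ι // g⁻¹ * (b : G) * g ∈ (S : Subgroup G)},
              ∃ m : Mdl n, (m ∈ Mdl.A ∧ m * m = 1) ∧ ι m = b.1.1 := fun b => by
            obtain ⟨m, hm, hm'⟩ := b.1.2
            exact ⟨m, ⟨hm, hinj (by rw [map_mul, map_one, hm']; exact hall b)⟩, hm'⟩
          choose M hM hM' using hex
          refine le_trans (Nat.card_le_card_of_injective (fun b =>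
            ((⟨(M b).a, ((Mdl.sq_eq_one_iff_A (hM b).1).1 (hM b).2).1⟩,
              ⟨(M b).b, ((Mdl.sq_eq_one_iff_A (hM b).1).1 (hM b).2).2⟩) :
              {x : ZMod n // x + x = 0} × {x : ZMod n // x + x = 0})) fun b b' hbb => ?_) ?_
          · refine Subtype.ext (Subtype.ext ?_)
            rw [← hM' b, ← hM' b']
            exact congrArg ι (Mdl.ext (congrArg (fun p => p.1.1) hbb) (congrArg (fun p => p.2.1) hbb)
              ((hM b).1.1.trans (hM b').1.1.symm) ((hM b).1.2.trans (hM b').1.2.symm))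
          · rw [Nat.card_prod]
            exact Nat.mul_le_mul (Mdl.card_two_torsion h2) (Mdl.card_two_torsion h2)
        rw [card_map_of_injective hinj, Mdl.card_A] at hle
        have h1 : n * n ≤ n / 2 * 4 := hle.trans (Nat.mul_le_mul hi2 hB)
        have : 4 * n ≤ n * n := Nat.mul_le_mul_right n h4
        omega
      set c := φ ⟨_, b.2⟩ with hc
      have hwc : w * c = c * w := by
        rw [hw, hc, ← φ.map_mul, ← φ.map_mul]
        refine congrArg φ (Subtype.ext ?_)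
        show g⁻¹ * ι y ^ 2 ^ i * g * (g⁻¹ * b.1.1 * g) = g⁻¹ * b.1.1 * g * (g⁻¹ * ι y ^ 2 ^ i * g)
        obtain ⟨m, hm, hm'⟩ := b.1.2
        have hcm : ι y ^ 2 ^ i * b.1.1 = b.1.1 * ι y ^ 2 ^ i := by
          rw [← hm', ← map_pow, ← map_mul, ← map_mul, Mdl.A_comm (pow_mem hyA _) hm]
        calc _ = g⁻¹ * (ι y ^ 2 ^ i * b.1.1) * g := by group
          _ = g⁻¹ * (b.1.1 * ι y ^ 2 ^ i) * g := by rw [hcm]
          _ = _ := by group
      have hcc := Mdl.odd_comm ha hn hp hw2 hwc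
      rw [hc, ← φ.map_mul, ← φ.map_one] at hcc
      refine hb ?_
      have := congrArg Subtype.val (φ.injective hcc)
      change g⁻¹ * b.1.1 * g * (g⁻¹ * b.1.1 * g) = 1 at this
      calc (b.1 : G) * b.1 = g * (g⁻¹ * b.1.1 * g * (g⁻¹ * b.1.1 * g)) * g⁻¹ := by group
        _ = 1 := by rw [this]; group
  -- orders and membership
  have hord : ∀ m : Mdl n, m * m = 1 → m ≠ 1 → orderOf (ι m) = 2 := fun m h h1 => by
    rw [orderOf_injective ι hinj, orderOf_eq_prime_iff]; exact ⟨by rw [sq, h], h1⟩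
  have hr0 : Mdl.r0 n * Mdl.r0 n = 1 := by simp [Mdl.r0, Mdl.mul_def, Mdl.one_def, Mdl.sgn, Mdl.fs]
  have hr01 : Mdl.r0 n ≠ 1 := fun h => Bool.noConfusion (congrArg Mdl.l h)
  have hzz : Mdl.z n * Mdl.z n = 1 :=
    (Mdl.sq_eq_one_iff_A hzA).2 ⟨Mdl.two_half h2, Mdl.two_half h2⟩
  have hz1 : Mdl.z n ≠ 1 := fun h => Mdl.half_ne_zero h2 (congrArg Mdl.a h)
  have hmm : ∀ x m, orderOf x = 2 → ι m = x → m * m = 1 ∧ m ≠ 1 := fun x m hx hm => by
    rw [← hm, orderOf_injective ι hinj, orderOf_eq_prime_iff, sq] at hx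
    exact hx
  -- involutions outside the negating part
  have hklass : ∀ m, m * m = 1 → m ≠ 1 → m.k = false →
      IsConj (ι m) (ι (Mdl.z n)) ∨ IsConj (ι m) (ι (Mdl.r0 n)) := by
    intro m hm hm1 hk
    rcases Bool.eq_false_or_eq_true m.l with hl | hl
    · obtain ⟨c, hc⟩ := Mdl.conj_r0 hk hl hm
      exact Or.inr (isConj_iff.2 ⟨ι c, by rw [← hc]; simp⟩).symm
    · exact Or.inl (hAinv m hm ⟨hk, hl⟩ hm1)
  have hall : ∀ x : G, orderOf x = 2 → IsConj x (ι (Mdl.z n)) ∨ IsConj x (ι (Mdl.r0 n)) := by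
    intro x hx
    obtain ⟨v, hv, hxv, hφv, -⟩ :=
      exists_extremal S (Mdl.kHom.comp φ.toMonoidHom) x hhom hx
    have hk : (φ ⟨v, hv⟩).k = false := Mdl.kHom_eq_one.1 hφv
    have hov : orderOf v = 2 := by
      obtain ⟨c, hc⟩ := isConj_iff.1 hxv
      rw [← hc, show c * x * c⁻¹ = MulAut.conj c x from rfl, MulEquiv.orderOf_eq, hx]
    obtain ⟨h1, h1'⟩ := hmm v _ hov (hsurj v hv)
    rcases hklass _ h1 h1' hk with h | h
    · exact Or.inl (hxv.trans (by rwa [hsurj v hv] at h))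
    · exact Or.inr (hxv.trans (by rwa [hsurj v hv] at h))
  by_cases hrz : IsConj (ι (Mdl.r0 n)) (ι (Mdl.z n))
  · refine Or.inl fun x y hx hy => ?_
    have key : ∀ x : G, orderOf x = 2 → IsConj x (ι (Mdl.z n)) := fun x hx =>
      (hall x hx).elim id fun h => h.trans hrz
    exact (key x hx).trans (key y hy).symm
  refine Or.inr ⟨?_, ι (Mdl.z n), ι (Mdl.r0 n), hord _ hzz hz1, hord _ hr0 hr01,
    fun h => hrz h.symm, hall⟩
  -- for `8 ≤ n` the extremal conjugate of `r0` lies in the abelian subgroup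
  suffices hn4 : n = 4 by rw [hcard, hn4]
  by_contra hn4
  have h8 : 8 ≤ n := by
    rw [hn] at hn4 ⊢
    have : a ≠ 2 := fun h => hn4 (by rw [h]; norm_num)
    exact (show 2 ^ 3 ≤ 2 ^ a from Nat.pow_le_pow_right two_pos (by omega))
  obtain ⟨v, hv, hxv, hφv, hmax⟩ :=
    exists_extremal S (Mdl.lHom.comp φ.toMonoidHom) (ι (Mdl.r0 n)) hhom (hord _ hr0 hr01)
  set m := φ ⟨v, hv⟩ with hm
  have hl : m.l = false := Mdl.lHom_eq_one.1 hφv
  have hov : orderOf v = 2 := by
    obtain ⟨c, hc⟩ := isConj_iff.1 hxv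
    rw [← hc, show c * ι (Mdl.r0 n) * c⁻¹ = MulAut.conj c (ι (Mdl.r0 n)) from rfl, MulEquiv.orderOf_eq,
      hord _ hr0 hr01]
  obtain ⟨h1, h1'⟩ := hmm v m hov (hsurj v hv)
  rcases Bool.eq_false_or_eq_true m.k with hk | hk
  · have hcent : ∀ (q : Mdl n) (x : G) (hx : x ∈ (S : Subgroup G)), φ ⟨x, hx⟩ = q →
        Nat.card {s : (S : Subgroup G) // (s : G) * x = x * s} = Nat.card {p : Mdl n // p * q = q * p} := by
      intro q x hx hq
      refine Nat.card_congr (Equiv.subtypeEquiv φ.toEquiv fun s => ?_)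
      show _ ↔ φ s * q = q * φ s
      rw [← hq, ← φ.map_mul, ← φ.map_mul, φ.injective.eq_iff, Subtype.ext_iff]
      rfl
    have := hmax (ι (Mdl.r0 n)) (IsConj.refl _) (hιS (Mdl.r0 n))
    rw [hcent _ _ (hιS (Mdl.r0 n)) (hφ _ _), hcent _ _ hv hm.symm] at this
    have := Mdl.cent_r0_ge (n := n)
    have := Mdl.cent_neg_le h2 hk hl
    omega
  · exact hrz (hxv.trans (hsurj v hv ▸ hAinv m h1 ⟨hk, hl⟩ h1'))

end Cfsg.Agent.G2Fusion
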