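import Cfsg.Agent.Lib.G2OddInvol.Centralizer
import Cfsg.Agent.Lib.G2Fusion.Model
import Mathlib.GroupTheory.Sylow
import Mathlib.GroupTheory.Nilpotent
import Mathlib.FieldTheory.Finite.Extension
import Mathlib.LinearAlgebra.Matrix.GeneralLinearGroup.Defs

/-!
# A Sylow 2-subgroup of `G₂(q)`, `q` odd, is `(Cₙ × Cₙ) ⋊ (C₂ × C₂)`
-/

set_option autoImplicit false
set_option linter.style.haveILetI false
set_option linter.unusedSectionVars false
set_option maxRecDepth 100000

namespace Cfsg.Agent.G2Fusion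

open Cfsg.Lie Cfsg.Agent.Chev Cfsg.Agent.G2OddInvol Matrix
open scoped MatrixGroups

variable (F : Type*) [Field F]

/-- Pairs of invertible matrices of equal determinant. -/
def Pairs : Subgroup (GL (Fin 2) F × GL (Fin 2) F) :=
  MonoidHom.eqLocus (GeneralLinearGroup.det.comp (MonoidHom.fst _ _))
    (GeneralLinearGroup.det.comp (MonoidHom.snd _ _))

variable {F}

/-- The diagonal matrix `(c, 1)`. -/
def dg (c : F) : Matrix (Fin 2) (Fin 2) F := !![c, 0; 0, 1]

theorem dg_mul (c d : F) : dg c * dg d = dg (c * d) := by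
  ext i j; fin_cases i <;> fin_cases j <;> simp [dg, Matrix.mul_apply, Fin.sum_univ_two]

theorem dg_one : dg (1 : F) = 1 := by
  ext i j; fin_cases i <;> fin_cases j <;> simp [dg]

theorem det_dg (c : F) : (dg c).det = c := by simp [dg, Matrix.det_fin_two]

/-- The determinant one part of an invertible matrix. -/
noncomputable def sl (X : GL (Fin 2) F) : SL(2, F) :=
  ⟨(X : Matrix (Fin 2) (Fin 2) F) * dg ((GeneralLinearGroup.det X : Fˣ) : F)⁻¹, by
    rw [Matrix.det_mul, det_dg, GeneralLinearGroup.val_det_apply, mul_inv_cancel₀]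
    exact (GeneralLinearGroup.det X).ne_zero⟩

/-- Conjugation of `SL₂` by `(c, 1)`. -/
def conjD {c : F} (hc : c ≠ 0) : SL(2, F) →* SL(2, F) :=
  conjSL (dg c) (dg c⁻¹) (by rw [dg_mul, mul_inv_cancel₀ hc, dg_one])
    (by rw [dg_mul, inv_mul_cancel₀ hc, dg_one])

theorem conjD_congr {c c' : F} (hc : c ≠ 0) (hc' : c' ≠ 0) (e : c = c') : conjD hc = conjD hc' := by
  subst e; rfl

theorem sl_mul (X Y : GL (Fin 2) F) :
    sl (X * Y) = sl X * conjD (GeneralLinearGroup.det X).ne_zero (sl Y) := by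
  refine Subtype.ext ?_
  rw [Matrix.SpecialLinearGroup.coe_mul, conjD, coe_conjSL]
  show ((X * Y : GL (Fin 2) F) : Matrix (Fin 2) (Fin 2) F) * _ = (X : Matrix (Fin 2) (Fin 2) F) * _ * _
  set c := ((GeneralLinearGroup.det X : Fˣ) : F)
  set d := ((GeneralLinearGroup.det Y : Fˣ) : F)
  have hc : c ≠ 0 := (GeneralLinearGroup.det X).ne_zero
  show _ = (X : Matrix (Fin 2) (Fin 2) F) * dg c⁻¹ * (dg c * ((Y : Matrix (Fin 2) (Fin 2) F) * dg d⁻¹) * dg c⁻¹)
  rw [Units.val_mul, map_mul, Units.val_mul, mul_inv]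
  simp only [mul_assoc]
  rw [← mul_assoc (dg c⁻¹) (dg c), dg_mul, inv_mul_cancel₀ hc, dg_one, one_mul, dg_mul, mul_comm c⁻¹]

theorem cartan_facts :
    (chevG2.cartan 0 8 = -1 ∧ chevG2.cartan 1 8 = 1) ∧ (chevG2.cartan 0 3 = 1 ∧ chevG2.cartan 1 3 = -1) ∧
      (chevG2.cartan 0 10 = 3 ∧ chevG2.cartan 1 10 = -1) ∧ (chevG2.cartan 0 1 = -3 ∧ chevG2.cartan 1 1 = 1) := by
  decide +kernel

/-- The torus element acting on both SL₂'s as `(c, 1)`. -/
theorem hh_conj_phi {c : F} (hc : c ≠ 0) {r : ℕ} (hr : r < 12) (hr' : r = 8 ∨ r = 10) (g : SL(2, F)) :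
    hh c (c ^ 2) * phi F hr g * (hh c (c ^ 2))⁻¹ = phi F hr (conjD hc g) := by
  have hc2 : c ^ 2 ≠ 0 := pow_ne_zero 2 hc
  have hu : ∀ t, conjD hc (upperSL t) = upperSL (c * t) := fun t => Subtype.ext (by
    rw [conjD, coe_conjSL, coe_upperSL, coe_upperSL]
    ext i j; fin_cases i <;> fin_cases j <;> simp [dg, Matrix.mul_apply, Fin.sum_univ_two, hc])
  have hl : ∀ t, conjD hc (lowerSL t) = lowerSL (c⁻¹ * t) := fun t => Subtype.ext (by
    rw [conjD, coe_conjSL, coe_lowerSL, coe_lowerSL]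
    ext i j; fin_cases i <;> fin_cases j <;> simp [dg, Matrix.mul_apply, Fin.sum_univ_two, hc, mul_comm])
  obtain ⟨p1, p2, -, -⟩ := phi_spec (F := F) hr
  obtain ⟨⟨a1, a2⟩, ⟨b1, b2⟩, ⟨d1, d2⟩, ⟨f1, f2⟩⟩ := cartan_facts
  refine phi_conj (fun t => ?_) (fun t => ?_) g
  · rw [hu, p1, p1, hh_conj_x hc hc2 hr]
    congr 1
    rcases hr' with rfl | rfl
    · rw [a1, a2, _root_.zpow_neg_one, _root_.zpow_one]; field_simp
    · rw [d1, d2, _root_.zpow_neg_one, show c ^ (3 : ℤ) = c ^ (3 : ℕ) from zpow_natCast c 3]; field_simp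
  · rw [hl, p2, p2, hh_conj_x hc hc2 (hn ▸ hgood.neg_lt (lt12 hr))]
    congr 1
    rcases hr' with rfl | rfl
    · rw [cent_facts.2.1.1, b1, b2, _root_.zpow_neg_one, _root_.zpow_one]; field_simp
    · rw [cent_facts.2.1.2.1, f1, f2, _root_.zpow_neg, _root_.zpow_one,
        show c ^ (3 : ℤ) = c ^ (3 : ℕ) from zpow_natCast c 3]; field_simp

/-- The map to the centralizer of `base`. -/
noncomputable def theta : Pairs F →* GL chevG2.Idx F where
  toFun p := phi F h8 (sl p.1.1) * phi F h10 (sl p.1.2) *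
    hh ((GeneralLinearGroup.det p.1.1 : Fˣ) : F) (((GeneralLinearGroup.det p.1.1 : Fˣ) : F) ^ 2)
  map_one' := by
    have h : sl (1 : GL (Fin 2) F) = 1 := Subtype.ext (by simp [sl, dg_one])
    show phi F h8 (sl (1 : GL (Fin 2) F)) * phi F h10 (sl (1 : GL (Fin 2) F)) * hh _ _ = 1
    rw [h, map_one, map_one, one_mul, one_mul]
    simp [hh_one]
  map_mul' p q := by
    show phi F h8 (sl (p.1.1 * q.1.1)) * phi F h10 (sl (p.1.2 * q.1.2)) * hh _ _ = _
    have hp : GeneralLinearGroup.det p.1.1 = GeneralLinearGroup.det p.1.2 := p.2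
    set c := ((GeneralLinearGroup.det p.1.1 : Fˣ) : F) with hc
    set d := ((GeneralLinearGroup.det q.1.1 : Fˣ) : F) with hd
    have hc0 : c ≠ 0 := (GeneralLinearGroup.det p.1.1).ne_zero
    have hd0 : d ≠ 0 := (GeneralLinearGroup.det q.1.1).ne_zero
    have e1 : sl (p.1.1 * q.1.1) = sl p.1.1 * conjD hc0 (sl q.1.1) := sl_mul _ _
    have e2 : sl (p.1.2 * q.1.2) = sl p.1.2 * conjD hc0 (sl q.1.2) := by
      rw [sl_mul, conjD_congr _ hc0 (by rw [hc, hp])]
    have e3 : ((GeneralLinearGroup.det (p.1.1 * q.1.1) : Fˣ) : F) = c * d := by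
      rw [map_mul, Units.val_mul]
    show phi F h8 (sl (p.1.1 * q.1.1)) * phi F h10 (sl (p.1.2 * q.1.2)) *
      hh ((GeneralLinearGroup.det (p.1.1 * q.1.1) : Fˣ) : F)
        (((GeneralLinearGroup.det (p.1.1 * q.1.1) : Fˣ) : F) ^ 2) = _
    rw [e1, e2, e3, mul_pow, ← hh_mul hc0 (pow_ne_zero 2 hc0) hd0 (pow_ne_zero 2 hd0), map_mul, map_mul]
    rw [← hh_conj_phi hc0 h8 (Or.inl rfl), ← hh_conj_phi hc0 h10 (Or.inr rfl)]
    set g8 := phi F h8 (sl p.1.1)
    set g10 := phi F h10 (sl p.1.2)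
    set k8 := phi F h8 (sl q.1.1)
    set k10 := phi F h10 (sl q.1.2)
    set H := hh c (c ^ 2)
    have hcomm : H * k8 * H⁻¹ * g10 = g10 * (H * k8 * H⁻¹) := by
      rw [show H * k8 * H⁻¹ = phi F h8 (conjD hc0 (sl q.1.1)) from hh_conj_phi hc0 h8 (Or.inl rfl) _]
      exact L_commute _ _
    calc g8 * (H * k8 * H⁻¹) * (g10 * (H * k10 * H⁻¹)) * (H * hh d (d ^ 2))
        = g8 * (H * k8 * H⁻¹ * g10) * H * k10 * hh d (d ^ 2) := by group
      _ = g8 * (g10 * (H * k8 * H⁻¹)) * H * k10 * hh d (d ^ 2) := by rw [hcomm]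
      _ = g8 * g10 * H * (k8 * k10 * hh d (d ^ 2)) := by group

theorem theta_apply (p : Pairs F) : theta p = phi F h8 (sl p.1.1) * phi F h10 (sl p.1.2) *
    hh ((GeneralLinearGroup.det p.1.1 : Fˣ) : F) (((GeneralLinearGroup.det p.1.1 : Fˣ) : F) ^ 2) := rfl

theorem theta_mem_K (p : Pairs F) : theta p ∈ K F := by
  refine Subgroup.mul_mem _ (Subgroup.mul_mem _ ?_ ?_) ?_
  · exact Subgroup.mem_sup_left (Subgroup.mem_sup_left ⟨_, rfl⟩)
  · exact Subgroup.mem_sup_left (Subgroup.mem_sup_right ⟨_, rfl⟩)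
  · exact Subgroup.mem_sup_right (hh_mem (Units.ne_zero _) (pow_ne_zero 2 (Units.ne_zero _)))

/-- A scalar matrix. -/
noncomputable abbrev sc (d : Fˣ) : GL (Fin 2) F := GeneralLinearGroup.scalar (Fin 2) d

theorem coe_sc (d : Fˣ) : ((sc d : GL (Fin 2) F) : Matrix (Fin 2) (Fin 2) F) = !![(d : F), 0; 0, d] := by
  ext i j; fin_cases i <;> fin_cases j <;> simp [sc, GeneralLinearGroup.scalar, Matrix.scalar]

theorem det_sc (d : Fˣ) : GeneralLinearGroup.det (sc d : GL (Fin 2) F) = d ^ 2 := by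
  refine Units.ext ?_
  rw [GeneralLinearGroup.val_det_apply, coe_sc, Matrix.det_fin_two]
  simp [sq]

theorem sc_comm (d : Fˣ) (X : GL (Fin 2) F) : sc d * X = X * sc d := by
  refine Units.ext ?_
  rw [Units.val_mul, Units.val_mul, coe_sc]
  ext i j; fin_cases i <;> fin_cases j <;> simp [Matrix.mul_apply, Fin.sum_univ_two, mul_comm]

theorem coe_torusSL {d : F} (hd : d ≠ 0) :
    ((nSL d * nSL (-1) : SL(2, F)) : Matrix (Fin 2) (Fin 2) F) = !![d, 0; 0, d⁻¹] := by
  rw [Matrix.SpecialLinearGroup.coe_mul, coe_nSL hd, coe_nSL (m1 (F := F))]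
  ext i j; fin_cases i <;> fin_cases j <;> simp [Matrix.mul_apply, Fin.sum_univ_two]

theorem hh_sq {d : F} (hd : d ≠ 0) : hh (d ^ 2) ((d ^ 2) ^ 2) =
    phi F h8 (nSL d * nSL (-1)) * phi F h10 (nSL d * nSL (-1)) := by
  rw [phi_torus h8, phi_torus h10, hG_eq_hh h8 hd, hG_eq_hh h10 hd, coroot_val.2.2.2.2.1,
    coroot_val.2.2.2.2.2.1, coroot_val.2.2.2.2.2.2.1, coroot_val.2.2.2.2.2.2.2, zpow_one,
    show d ^ (3 : ℤ) = d ^ (3 : ℕ) from zpow_natCast d 3, hh_mul hd (pow_ne_zero 3 hd) hd hd]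
  congr 1 <;> ring

theorem theta_eq_of_sq (p : Pairs F) {d : Fˣ} (hd : GeneralLinearGroup.det p.1.1 = d ^ 2) :
    theta p = phi F h8 (sl p.1.1 * (nSL (d : F) * nSL (-1))) *
      phi F h10 (sl p.1.2 * (nSL (d : F) * nSL (-1))) := by
  rw [theta_apply, hd, Units.val_pow_eq_pow_val, hh_sq d.ne_zero]
  rw [map_mul (phi F h8) (sl _) (nSL (d : F) * nSL (-1)),
    map_mul (phi F h10) (sl _) (nSL (d : F) * nSL (-1))]
  set A := phi F h8 (sl p.1.1)
  set B := phi F h10 (sl p.1.2)
  set C := phi F h8 (nSL (d : F) * nSL (-1))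
  set D := phi F h10 (nSL (d : F) * nSL (-1))
  have hBC : B * C = C * B := (L_commute _ _).symm
  calc A * B * (C * D) = A * (B * C) * D := by group
    _ = A * (C * B) * D := by rw [hBC]
    _ = _ := by group

theorem coe_sl_torus (X : GL (Fin 2) F) {d : Fˣ} (hd : GeneralLinearGroup.det X = d ^ 2) :
    ((sl X * (nSL (d : F) * nSL (-1)) : SL(2, F)) : Matrix (Fin 2) (Fin 2) F) =
      (X : Matrix (Fin 2) (Fin 2) F) * !![(d : F)⁻¹, 0; 0, (d : F)⁻¹] := by
  rw [Matrix.SpecialLinearGroup.coe_mul, coe_torusSL d.ne_zero]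
  show (X : Matrix (Fin 2) (Fin 2) F) * dg _ * _ = _
  rw [hd, Units.val_pow_eq_pow_val, mul_assoc]
  congr 1
  ext i j; fin_cases i <;> fin_cases j <;> simp [dg, Matrix.mul_apply, Fin.sum_univ_two, sq]

theorem theta_scalar {p : Pairs F} {d : Fˣ} (h1 : p.1.1 = sc d) (h2 : p.1.2 = sc d) : theta p = 1 := by
  have key : ∀ X : GL (Fin 2) F, X = sc d → sl X * (nSL (d : F) * nSL (-1)) = 1 := by
    rintro X rfl
    refine Subtype.ext ?_
    rw [coe_sl_torus _ (det_sc d), coe_sc]
    ext i j; fin_cases i <;> fin_cases j <;> simp [Matrix.mul_apply, Fin.sum_univ_two]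
  rw [theta_eq_of_sq p (d := d) (by rw [h1, det_sc]), key _ h1, key _ h2, map_one, map_one, one_mul]

theorem eq_sc_of_theta {p : Pairs F} (h : theta p = 1) : ∃ d : Fˣ, p.1.1 = sc d ∧ p.1.2 = sc d := by
  have hsq : IsSquare ((GeneralLinearGroup.det p.1.1 : Fˣ) : F) := by
    set c := ((GeneralLinearGroup.det p.1.1 : Fˣ) : F)
    have hc0 : c ≠ 0 := (GeneralLinearGroup.det p.1.1).ne_zero
    rw [theta_apply, mul_eq_one_iff_eq_inv'] at h
    have := (hh_mem_L_iff hc0 (pow_ne_zero 2 hc0)).1 (h ▸ Subgroup.inv_mem _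
      (Subgroup.mul_mem _ (Subgroup.mem_sup_left ⟨_, rfl⟩) (Subgroup.mem_sup_right ⟨_, rfl⟩)))
    rwa [sq, mul_div_assoc, div_self hc0, mul_one] at this
  obtain ⟨r, hr⟩ := hsq
  have hr0 : r ≠ 0 := fun h0 => (GeneralLinearGroup.det p.1.1).ne_zero (by rw [hr, h0, mul_zero])
  have hd : GeneralLinearGroup.det p.1.1 = Units.mk0 r hr0 ^ 2 := Units.ext (by rw [hr, sq]; rfl)
  rw [theta_eq_of_sq p hd] at h
  have key : ∀ (X : GL (Fin 2) F) (ε : Fˣ), GeneralLinearGroup.det X = Units.mk0 r hr0 ^ 2 →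
      ((sl X * (nSL r * nSL (-1)) : SL(2, F)) : Matrix (Fin 2) (Fin 2) F) = !![(ε : F), 0; 0, ε] →
        X = sc (ε * Units.mk0 r hr0) := by
    intro X ε hX e
    refine Units.ext ?_
    have e' := (coe_sl_torus X hX).symm.trans e
    rw [coe_sc]
    have := congrArg (fun M => M * !![r, 0; 0, r]) e'
    simp only [mul_assoc, Units.val_mk0] at this
    rw [show (!![r⁻¹, 0; 0, r⁻¹] * !![r, 0; 0, r] : Matrix (Fin 2) (Fin 2) F) = 1 by
      ext i j; fin_cases i <;> fin_cases j <;> simp [Matrix.mul_apply, Fin.sum_univ_two, hr0], mul_one] at this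
    rw [this]
    ext i j; fin_cases i <;> fin_cases j <;> simp [Matrix.mul_apply, Fin.sum_univ_two]
  have h' := eq_inv_of_mul_eq_one_left h
  rw [← map_inv] at h'
  have hp : GeneralLinearGroup.det p.1.2 = Units.mk0 r hr0 ^ 2 := by rw [← hd]; exact p.2.symm
  rcases eq_of_phi_eq h' with ⟨e1, e2⟩ | ⟨e1, e2⟩
  · refine ⟨1 * Units.mk0 r hr0, key _ _ hd ?_, key _ _ hp ?_⟩
    · rw [Units.val_mk0] at e1; rw [e1]
      ext i j; fin_cases i <;> fin_cases j <;> simp
    · rw [inv_eq_one, Units.val_mk0] at e2; rw [e2]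
      ext i j; fin_cases i <;> fin_cases j <;> simp
  · refine ⟨-1 * Units.mk0 r hr0, key _ _ hd ?_, key _ _ hp ?_⟩
    · rw [Units.val_mk0] at e1; rw [e1]
      ext i j; fin_cases i <;> fin_cases j <;> simp
    · rw [inv_eq_iff_eq_inv, Units.val_mk0, inv_eq_of_mul_eq_one_right (by simp : (-1 : SL(2, F)) * -1 = 1)] at e2
      rw [e2]
      ext i j; fin_cases i <;> fin_cases j <;> simp

/-- The quarter turn. -/
def J : GL (Fin 2) F :=
  ⟨!![0, 1; -1, 0], !![0, -1; 1, 0],
    by ext i j; fin_cases i <;> fin_cases j <;> simp [Matrix.mul_apply, Fin.sum_univ_two],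
    by ext i j; fin_cases i <;> fin_cases j <;> simp [Matrix.mul_apply, Fin.sum_univ_two]⟩

theorem J_sq : (J : GL (Fin 2) F) * J = sc (-1) := by
  refine Units.ext ?_
  rw [Units.val_mul, coe_sc]
  ext i j; fin_cases i <;> fin_cases j <;> simp [J, Matrix.mul_apply, Fin.sum_univ_two]

theorem det_J : GeneralLinearGroup.det (J : GL (Fin 2) F) = 1 := by
  refine Units.ext ?_
  simp [J, Matrix.det_fin_two]

theorem J_conj {x : GL (Fin 2) F} (hs : (x : Matrix (Fin 2) (Fin 2) F) 0 1 = (x : Matrix (Fin 2) (Fin 2) F) 1 0) :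
    J * x * J⁻¹ = sc (GeneralLinearGroup.det x) * x⁻¹ := by
  rw [eq_mul_inv_iff_mul_eq]
  refine Units.ext ?_
  rw [Units.val_mul, Units.val_mul, Units.val_mul, coe_sc, GeneralLinearGroup.val_det_apply,
    Matrix.det_fin_two]
  show (!![0, 1; -1, 0] * (x : Matrix (Fin 2) (Fin 2) F) * !![0, -1; 1, 0]) * _ = _
  ext i j; simp only [Matrix.mul_apply, Fin.sum_univ_two]
  fin_cases i <;> fin_cases j <;> simp [hs] <;> ring

/-- What the construction needs. -/
structure Datum (F : Type*) [Field F] (n : ℕ) where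
  /-- the element generating a torus -/
  x : GL (Fin 2) F
  /-- its `n`-th power -/
  s : Fˣ
  /-- the normalisation -/
  c : Fˣ
  hsym : (x : Matrix (Fin 2) (Fin 2) F) 0 1 = (x : Matrix (Fin 2) (Fin 2) F) 1 0
  hpow : x ^ n = sc s
  hdet : GeneralLinearGroup.det x ^ (n / 2) = -s
  hc : c ^ 2 * s = -1
  hns : ∀ d : Fˣ, x ^ (n / 2) ≠ sc d
  hchar : (2 : F) ≠ 0

namespace Datum

variable {n a : ℕ} (D : Datum F n)

/-- The determinant. -/
noncomputable def γ : Fˣ := GeneralLinearGroup.det D.x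

/-- The second element of order four. -/
noncomputable def u2 : GL (Fin 2) F := sc D.c * D.x ^ (n / 2)

theorem u2_comm : D.u2 * D.x = D.x * D.u2 := by
  rw [u2, mul_assoc, ← pow_succ, pow_succ', ← mul_assoc, sc_comm, mul_assoc]

theorem det_u2 : GeneralLinearGroup.det D.u2 = 1 := by
  rw [u2, map_mul, map_pow, det_sc, D.hdet, mul_neg, D.hc, neg_neg]

theorem u2_sq (h2 : 2 ∣ n) : D.u2 * D.u2 = sc (-1) := by
  rw [u2, mul_assoc, ← mul_assoc (D.x ^ _), ← sc_comm, mul_assoc, ← pow_add,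
    show n / 2 + n / 2 = n by omega, D.hpow, ← map_mul, ← map_mul]
  congr 1
  rw [← mul_assoc, ← sq, D.hc]

theorem J_u2 (h2 : 2 ∣ n) : J * D.u2 = sc (-1) * (D.u2 * J) := by
  have h := congrArg (fun z => z ^ (n / 2)) (J_conj D.hsym)
  simp only [conj_pow] at h
  rw [(show Commute (sc (GeneralLinearGroup.det D.x)) D.x⁻¹ from sc_comm _ _).mul_pow, ← map_pow, D.hdet,
    inv_pow] at h
  have hinv : (D.x ^ (n / 2))⁻¹ = sc D.s⁻¹ * D.x ^ (n / 2) := by
    refine inv_eq_of_mul_eq_one_right ?_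
    rw [← mul_assoc, ← sc_comm, mul_assoc, ← pow_add, show n / 2 + n / 2 = n by omega, D.hpow, ← map_mul,
      inv_mul_cancel, map_one]
  rw [hinv, ← mul_assoc, ← map_mul, neg_mul, mul_inv_cancel, mul_inv_eq_iff_eq_mul] at h
  rw [u2, ← mul_assoc, ← sc_comm, mul_assoc, h]
  simp only [← mul_assoc, ← map_mul]
  rw [mul_comm D.c]

theorem mem_pairs {X Y : GL (Fin 2) F} :
    (X, Y) ∈ Pairs F ↔ GeneralLinearGroup.det X = GeneralLinearGroup.det Y := Iff.rfl

/-- `y`. -/
noncomputable def Y : Pairs F := ⟨(D.x, D.x), mem_pairs.2 rfl⟩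

/-- `r y r⁻¹`. -/
noncomputable def Y' : Pairs F :=
  ⟨(sc D.γ * D.x⁻¹, D.x), mem_pairs.2 (by rw [map_mul, det_sc, map_inv, γ, sq, mul_inv_cancel_right])⟩

/-- `w`. -/
noncomputable def W : Pairs F :=
  ⟨(J * D.u2, J), mem_pairs.2 (by rw [map_mul, det_u2, mul_one])⟩

/-- `r`. -/
noncomputable def R : Pairs F := ⟨(J, D.u2), mem_pairs.2 (by rw [det_u2, det_J])⟩

theorem theta_congr {p q : Pairs F} {d : Fˣ} (h1 : p.1.1 = sc d * q.1.1) (h2 : p.1.2 = sc d * q.1.2) :
    theta p = theta q := by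
  have h : theta (p * q⁻¹) = 1 := by
    refine theta_scalar (d := d) ?_ ?_
    · show p.1.1 * q.1.1⁻¹ = sc d
      rw [h1, mul_inv_cancel_right]
    · show p.1.2 * q.1.2⁻¹ = sc d
      rw [h2, mul_inv_cancel_right]
  rwa [map_mul, map_inv, mul_inv_eq_one] at h

variable (h2 : 2 ∣ n)
include h2

theorem W_sq : theta D.W * theta D.W = 1 := by
  rw [← map_mul]
  refine theta_scalar (d := -1) ?_ J_sq
  show J * D.u2 * (J * D.u2) = sc (-1)
  calc J * D.u2 * (J * D.u2) = sc (-1) * (D.u2 * J) * (J * D.u2) := by rw [D.J_u2 h2]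
    _ = sc (-1) * (D.u2 * (J * J) * D.u2) := by group
    _ = sc (-1) * (sc (-1) * (D.u2 * D.u2)) := by rw [J_sq, ← sc_comm, mul_assoc]
    _ = sc (-1) := by rw [D.u2_sq h2, ← map_mul, ← map_mul]; norm_num

theorem R_sq : theta D.R * theta D.R = 1 := by
  rw [← map_mul]
  exact theta_scalar (d := -1) J_sq (D.u2_sq h2)

theorem R_W : theta D.R * theta D.W = theta D.W * theta D.R := by
  rw [← map_mul, ← map_mul]
  refine theta_congr (d := -1) ?_ ?_
  · show J * (J * D.u2) = sc (-1) * (J * D.u2 * J)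
    calc J * (J * D.u2) = J * (sc (-1) * (D.u2 * J)) := by rw [D.J_u2 h2]
      _ = sc (-1) * (J * D.u2 * J) := by rw [← mul_assoc, ← sc_comm]; group
  · show D.u2 * J = sc (-1) * (J * D.u2)
    rw [D.J_u2 h2, ← mul_assoc, ← map_mul]
    norm_num

omit h2

theorem W_Y : theta D.W * theta D.Y * (theta D.W)⁻¹ = (theta D.Y)⁻¹ := by
  rw [← map_inv, ← map_inv, ← map_mul, ← map_mul]
  refine theta_congr (d := D.γ) ?_ ?_
  · show J * D.u2 * D.x * (J * D.u2)⁻¹ = sc D.γ * D.x⁻¹
    calc J * D.u2 * D.x * (J * D.u2)⁻¹ = J * (D.u2 * D.x) * D.u2⁻¹ * J⁻¹ := by group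
      _ = J * D.x * J⁻¹ := by rw [D.u2_comm]; group
      _ = _ := J_conj D.hsym
  · exact J_conj D.hsym

theorem R_Y : theta D.R * theta D.Y * (theta D.R)⁻¹ = theta D.Y' := by
  rw [← map_inv, ← map_mul, ← map_mul]
  refine congrArg theta (Subtype.ext (Prod.ext (J_conj D.hsym) ?_))
  show D.u2 * D.x * D.u2⁻¹ = D.x
  rw [D.u2_comm, mul_inv_cancel_right]

theorem Y_comm : theta D.Y * theta D.Y' = theta D.Y' * theta D.Y := by
  rw [← map_mul, ← map_mul]
  refine congrArg theta (Subtype.ext (Prod.ext ?_ rfl))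
  show D.x * (sc D.γ * D.x⁻¹) = sc D.γ * D.x⁻¹ * D.x
  rw [← mul_assoc, ← sc_comm, mul_inv_cancel_right, inv_mul_cancel_right]

theorem Y_pow : theta D.Y ^ n = 1 := by
  rw [← map_pow]
  exact theta_scalar D.hpow D.hpow

/-- The representative pair of an element of the model. -/
noncomputable def rep (m : Mdl n) : Pairs F :=
  D.Y ^ m.a.val * D.Y' ^ m.b.val * D.W ^ (bif m.k then 1 else 0) * D.R ^ (bif m.l then 1 else 0)

theorem map_rep_mul (h2 : 2 ∣ n) [NeZero n] (p q : Mdl n) :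
    theta (D.rep (p * q)) = theta (D.rep p) * theta (D.rep q) := by
  set A : ZMod n → GL chevG2.Idx F := fun v => theta D.Y ^ v.val with hA
  set B : ZMod n → GL chevG2.Idx F := fun v => theta D.Y' ^ v.val with hB
  set W := theta D.W with hW
  set R := theta D.R with hR
  have hpow' : theta D.Y' ^ n = 1 := by rw [← D.R_Y, conj_pow, D.Y_pow, mul_one, mul_inv_cancel]
  have hadd : ∀ (g : GL chevG2.Idx F), g ^ n = 1 → ∀ u v : ZMod n, g ^ (u + v).val = g ^ u.val * g ^ v.val := by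
    intro g hg u v
    rw [← pow_add, ZMod.val_add, ← pow_eq_pow_mod _ hg]
  have hA1 : ∀ u v, A (u + v) = A u * A v := hadd _ D.Y_pow
  have hB1 : ∀ u v, B (u + v) = B u * B v := hadd _ hpow'
  have hA0 : A 0 = 1 := by simp [hA]
  have hB0 : B 0 = 1 := by simp [hB]
  have hAn : ∀ u, A (-u) = (A u)⁻¹ := fun u => eq_inv_of_mul_eq_one_left (by rw [← hA1, neg_add_cancel, hA0])
  have hBn : ∀ u, B (-u) = (B u)⁻¹ := fun u => eq_inv_of_mul_eq_one_left (by rw [← hB1, neg_add_cancel, hB0])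
  have hAB : ∀ u v, B u * A v = A v * B u := fun u v =>
    ((show Commute (theta D.Y) (theta D.Y') from D.Y_comm).pow_pow _ _).eq.symm
  have hWY' : W * theta D.Y' * W⁻¹ = (theta D.Y')⁻¹ := by
    have hRW : R * W = W * R := D.R_W h2
    rw [← D.R_Y, ← hR]
    calc W * (R * theta D.Y * R⁻¹) * W⁻¹ = (W * R) * theta D.Y * (W * R)⁻¹ := by group
      _ = (R * W) * theta D.Y * (R * W)⁻¹ := by rw [hRW]
      _ = R * (W * theta D.Y * W⁻¹) * R⁻¹ := by group
      _ = _ := by rw [D.W_Y]; group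
  have hRR : R⁻¹ = R := inv_eq_of_mul_eq_one_right (D.R_sq h2)
  have hWA : ∀ u, W * A u = A (-u) * W := fun u => by
    rw [← mul_inv_eq_iff_eq_mul, hAn, hA, ← conj_pow, D.W_Y, inv_pow]
  have hWB : ∀ u, W * B u = B (-u) * W := fun u => by
    rw [← mul_inv_eq_iff_eq_mul, hBn, hB, ← conj_pow, hWY', inv_pow]
  have hRA : ∀ u, R * A u = B u * R := fun u => by
    rw [← mul_inv_eq_iff_eq_mul, hA, ← conj_pow, D.R_Y]
  have hRB : ∀ u, R * B u = A u * R := fun u => by
    have h : R * theta D.Y' * R⁻¹ = theta D.Y := by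
      rw [← D.R_Y, ← hR]
      calc R * (R * theta D.Y * R⁻¹) * R⁻¹ = (R * R) * theta D.Y * (R * R)⁻¹ := by group
        _ = _ := by rw [D.R_sq h2]; group
    rw [← mul_inv_eq_iff_eq_mul, hB, ← conj_pow, h]
  have hrep : ∀ m : Mdl n, theta (D.rep m) =
      A m.a * B m.b * W ^ (bif m.k then 1 else 0) * R ^ (bif m.l then 1 else 0) := fun m => by
    simp [rep, hA, hB, hW, hR]
  -- moving the flags to the right
  have moveR : ∀ (l : Bool) (u v : ZMod n), R ^ (bif l then 1 else 0) * (A u * B v) =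
      A (Mdl.fs l u v) * B (Mdl.fs l v u) * R ^ (bif l then 1 else 0) := fun l u v => by
    cases l
    · simp [Mdl.fs]
    · simp only [cond_true, pow_one, Mdl.fs, if_true]
      rw [← mul_assoc, hRA, mul_assoc, hRB, ← mul_assoc, hAB]
  have moveW : ∀ (k : Bool) (u v : ZMod n), W ^ (bif k then 1 else 0) * (A u * B v) =
      A (Mdl.sgn k u) * B (Mdl.sgn k v) * W ^ (bif k then 1 else 0) := fun k u v => by
    cases k
    · simp [Mdl.sgn]
    · simp only [cond_true, pow_one, Mdl.sgn, if_true]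
      rw [← mul_assoc, hWA, mul_assoc, hWB, ← mul_assoc]
  have flags : ∀ k l k' l' : Bool, W ^ (bif k then 1 else 0) * R ^ (bif l then 1 else 0) *
      (W ^ (bif k' then 1 else 0) * R ^ (bif l' then 1 else 0)) =
      W ^ (bif xor k k' then 1 else 0) * R ^ (bif xor l l' then 1 else 0) := by
    intro k l k' l'
    have hWW : W * W = 1 := D.W_sq h2
    have hRR' : R * R = 1 := D.R_sq h2
    have hRW : R * W = W * R := D.R_W h2
    have hRWR : R * (W * R) = W := by rw [← mul_assoc, hRW, mul_assoc, hRR', mul_one]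
    have hWWR : W * (W * R) = R := by rw [← mul_assoc, hWW, one_mul]
    cases k <;> cases l <;> cases k' <;> cases l' <;>
      simp [hWW, hRR', hRW, hRWR, hWWR, mul_assoc]
  rw [hrep, hrep p, hrep q, Mdl.mul_def]
  dsimp only
  rw [hA1, hB1, mul_assoc _ (W ^ (bif xor p.k q.k then 1 else 0)), ← flags p.k p.l q.k q.l]
  have key : A p.a * A (Mdl.sgn p.k (Mdl.fs p.l q.a q.b)) * (B p.b * B (Mdl.sgn p.k (Mdl.fs p.l q.b q.a))) *
        W ^ (bif p.k then 1 else 0) * R ^ (bif p.l then 1 else 0) =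
      A p.a * B p.b * W ^ (bif p.k then 1 else 0) * R ^ (bif p.l then 1 else 0) * (A q.a * B q.b) := by
    conv_rhs => rw [mul_assoc _ (R ^ _), moveR, ← mul_assoc, mul_assoc _ (W ^ _), moveW]
    simp only [← mul_assoc]
    rw [mul_assoc (A p.a) (B p.b), hAB]
    simp only [← mul_assoc]
  simp only [← mul_assoc] at key ⊢
  rw [key]

/-- The embedding of the model. -/
noncomputable def emb (h2 : 2 ∣ n) [NeZero n] : Mdl n →* GL chevG2.Idx F :=
  MonoidHom.mk' (fun m => theta (D.rep m)) (D.map_rep_mul h2)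

theorem emb_apply (h2 : 2 ∣ n) [NeZero n] (m : Mdl n) : D.emb h2 m = theta (D.rep m) := rfl

variable (ha : 2 ≤ a) (hn : n = 2 ^ a)
include ha hn

theorem dvd_of_zpow {i : ℤ} {d : Fˣ} (h : D.x ^ i = sc d) : (n : ℤ) ∣ i := by
  by_contra hni
  obtain ⟨j, -, hj⟩ := (Nat.dvd_prime_pow Nat.prime_two).1
    (hn ▸ (Nat.gcd_dvd_left n i.natAbs) : Int.gcd (n : ℤ) i ∣ 2 ^ a)
  have hg : D.x ^ (Int.gcd (n : ℤ) i : ℤ) = sc (D.s ^ Int.gcdA n i * d ^ Int.gcdB n i) := by
    rw [Int.gcd_eq_gcd_ab, _root_.zpow_add, _root_.zpow_mul, _root_.zpow_mul, zpow_natCast, D.hpow, h,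
      ← map_zpow, ← map_zpow, ← map_mul]
  have hja : j < a := by
    by_contra hja
    refine hni ?_
    have h1 : ((2 ^ a : ℕ) : ℤ) ∣ (Int.gcd (n : ℤ) i : ℤ) := by
      rw [Int.natCast_dvd_natCast, hj]; exact pow_dvd_pow 2 (not_lt.1 hja)
    rw [← hn] at h1
    exact h1.trans (Int.gcd_dvd_right _ _)
  obtain ⟨k, hk⟩ : Int.gcd (n : ℤ) i ∣ n / 2 := by
    rw [hj, hn]
    obtain ⟨c, rfl⟩ : ∃ c, a = c + 1 := ⟨a - 1, by omega⟩
    rw [pow_succ, Nat.mul_div_cancel _ two_pos]
    exact pow_dvd_pow 2 (by omega)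
  rw [zpow_natCast] at hg
  exact D.hns _ (by rw [hk, pow_mul, hg, ← map_pow])

theorem not_commute_of_anti {g : GL (Fin 2) F} (hg : g * D.x * g⁻¹ = sc D.γ * D.x⁻¹) (d : Fˣ) :
    g ≠ sc d := by
  rintro rfl
  rw [sc_comm, mul_inv_cancel_right] at hg
  have h : D.x ^ (2 : ℤ) = sc D.γ := by
    rw [_root_.zpow_two]
    nth_rewrite 1 [hg]
    rw [inv_mul_cancel_right]
  have := Int.le_of_dvd two_pos (D.dvd_of_zpow ha hn h)
  have := Mdl.four_le ha hn
  omega

theorem emb_injective [NeZero n] : Function.Injective (D.emb (Mdl.two_dvd ha hn)) := by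
  rw [injective_iff_map_eq_one]
  intro m hm
  rw [emb_apply] at hm
  obtain ⟨d, hX, hY⟩ := eq_sc_of_theta hm
  obtain ⟨ma, mb, mk, ml⟩ := m
  replace hX : D.x ^ ma.val * (sc D.γ * D.x⁻¹) ^ mb.val * (J * D.u2) ^ (bif mk then 1 else 0) *
    J ^ (bif ml then 1 else 0) = sc d := hX
  replace hY : D.x ^ ma.val * D.x ^ mb.val * J ^ (bif mk then 1 else 0) *
    D.u2 ^ (bif ml then 1 else 0) = sc d := hY
  have hcx : ∀ i : ℕ, Commute (D.x ^ i) D.x := fun i => (Commute.refl D.x).pow_left i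
  have hcg : ∀ i : ℕ, Commute ((sc D.γ * D.x⁻¹) ^ i) D.x := fun i =>
    ((show Commute (sc D.γ) D.x from sc_comm _ _).mul_left (Commute.refl D.x).inv_left).pow_left i
  have hanti : ∀ P Q : GL (Fin 2) F, Commute P D.x → Commute Q D.x →
      P * J * Q * D.x * (P * J * Q)⁻¹ = sc D.γ * D.x⁻¹ := by
    intro P Q hP hQ
    calc P * J * Q * D.x * (P * J * Q)⁻¹ = P * J * (Q * D.x) * Q⁻¹ * J⁻¹ * P⁻¹ := by group
      _ = P * (J * D.x * J⁻¹) * P⁻¹ := by rw [hQ.eq]; group
      _ = _ := by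
        rw [J_conj D.hsym]
        have hc : Commute P (sc (GeneralLinearGroup.det D.x) * D.x⁻¹) :=
          (show Commute P _ from (sc_comm _ P).symm).mul_right hP.inv_right
        rw [hc.eq, mul_inv_cancel_right]
        rfl
  cases mk <;> cases ml
  · simp only [cond_false, pow_zero, mul_one] at hX hY
    rw [(show Commute (sc D.γ) D.x⁻¹ from sc_comm _ _).mul_pow, ← map_pow, ← mul_assoc, ← sc_comm,
      mul_assoc, inv_pow, ← eq_inv_mul_iff_mul_eq, ← map_inv, ← map_mul, ← zpow_natCast D.x ma.val,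
      ← zpow_natCast D.x mb.val, ← _root_.zpow_sub] at hX
    have h1 := D.dvd_of_zpow ha hn hX
    have hab : ma = mb := by
      have := (ZMod.intCast_eq_intCast_iff_dvd_sub (mb.val : ℤ) ma.val n).2 h1
      simpa using this.symm
    subst hab
    rw [sub_self, _root_.zpow_zero] at hX
    have hd : d = D.γ ^ ma.val := by
      have : ((1 : GL (Fin 2) F) : Matrix (Fin 2) (Fin 2) F) 0 0 = _ := congrArg (fun g : GL (Fin 2) F => (g : Matrix (Fin 2) (Fin 2) F) 0 0) hX
      rw [coe_sc] at this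
      simp at this
      field_simp at this
      exact Units.ext (by rw [Units.val_pow_eq_pow_val]; exact this.symm)
    rw [← pow_add] at hY
    have h3 := D.dvd_of_zpow ha hn (by rw [zpow_natCast]; exact hY)
    rw [Int.natCast_dvd_natCast] at h3
    have hlt := ZMod.val_lt ma
    have h2 := Mdl.two_dvd ha hn
    rcases Nat.eq_zero_or_pos ma.val with h0 | h0
    · have : ma = 0 := (ZMod.val_eq_zero ma).1 h0
      subst this; rfl
    · exfalso
      have hv : ma.val + ma.val = n := by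
        obtain ⟨c, hc⟩ := h3
        rcases c with _ | _ | c
        · omega
        · omega
        · have : n * 2 ≤ n * (c + 1 + 1) := Nat.mul_le_mul_left _ (by omega)
          omega
      rw [hv, D.hpow, hd, show ma.val = n / 2 by omega, γ, D.hdet] at hY
      have := congrArg (fun g : GL (Fin 2) F => (g : Matrix (Fin 2) (Fin 2) F) 0 0) hY
      simp only [coe_sc] at this
      simp at this
      exact D.hchar ((mul_eq_zero.1 (show (2 : F) * D.s = 0 by linear_combination this)).resolve_right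
        D.s.ne_zero)
  · exfalso
    simp only [cond_false, cond_true, pow_zero, pow_one, mul_one] at hX
    exact D.not_commute_of_anti ha hn (by
      simpa using hanti (D.x ^ ma.val * (sc D.γ * D.x⁻¹) ^ mb.val) 1 ((hcx _).mul_left (hcg _))
        (Commute.one_left _)) d hX
  · exfalso
    simp only [cond_false, cond_true, pow_zero, pow_one, mul_one] at hY
    exact D.not_commute_of_anti ha hn (by
      simpa using hanti (D.x ^ ma.val * D.x ^ mb.val) 1 ((hcx _).mul_left (hcx _)) (Commute.one_left _)) d hY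
  · exfalso
    simp only [cond_true, pow_one] at hY
    exact D.not_commute_of_anti ha hn (hanti (D.x ^ ma.val * D.x ^ mb.val) D.u2 ((hcx _).mul_left (hcx _))
      D.u2_comm) d hY

theorem emb_z [NeZero n] : D.emb (Mdl.two_dvd ha hn) (Mdl.z n) = base := by
  have h2 := Mdl.two_dvd ha hn
  have h4 := Mdl.four_le ha hn
  have hv : (Mdl.half n).val = n / 2 := by
    rw [Mdl.half, ZMod.val_natCast, Nat.mod_eq_of_lt (by omega)]
  rw [emb_apply]
  let q : Pairs F := ⟨(sc (-1), 1), mem_pairs.2 (by rw [det_sc, map_one]; exact neg_one_sq)⟩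
  refine (theta_congr (d := D.s) (q := q) ?_ ?_).trans ?_
  · show D.x ^ (Mdl.half n).val * (sc D.γ * D.x⁻¹) ^ (Mdl.half n).val * (J * D.u2) ^ 0 * J ^ 0 = sc D.s * sc (-1)
    rw [hv, (show Commute (sc D.γ) D.x⁻¹ from sc_comm _ _).mul_pow, ← map_pow, γ, D.hdet, inv_pow, pow_zero,
      pow_zero, mul_one, mul_one, ← mul_assoc, ← sc_comm, mul_inv_cancel_right, ← map_mul, mul_neg, mul_one]
  · show D.x ^ (Mdl.half n).val * D.x ^ (Mdl.half n).val * J ^ 0 * D.u2 ^ 0 = sc D.s * 1
    rw [hv, ← pow_add, show n / 2 + n / 2 = n by omega, D.hpow, pow_zero, pow_zero, mul_one, mul_one]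
  · rw [theta_apply]
    show phi F h8 (sl (sc (-1))) * phi F h10 (sl 1) * hh _ _ = base
    have hd1 : GeneralLinearGroup.det (sc (-1) : GL (Fin 2) F) = 1 := by rw [det_sc]; exact neg_one_sq
    have h8' : sl (sc (-1 : Fˣ)) = (-1 : SL(2, F)) := by
      refine Subtype.ext ?_
      show _ * dg _ = _
      rw [hd1, coe_sc]
      ext i j; fin_cases i <;> fin_cases j <;> simp [dg, Matrix.mul_apply, Fin.sum_univ_two]
    have h1' : sl (1 : GL (Fin 2) F) = 1 := Subtype.ext (by simp [sl, dg_one])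
    rw [h8', h1', map_one, mul_one, phi8_neg]
    show base * hh ((GeneralLinearGroup.det (sc (-1 : Fˣ) : GL (Fin 2) F) : Fˣ) : F) _ = base
    rw [hd1]
    simp [hh_one]

end Datum

/-- The only involution in the centre of the model. -/
theorem eq_z_of_central {n a : ℕ} (ha : 2 ≤ a) (hn : n = 2 ^ a) {q : Mdl n}
    (hq : ∀ p, q * p = p * q) (h1 : q ≠ 1) : q = Mdl.z n := by
  have h2 := Mdl.two_dvd ha hn
  have : NeZero n := ⟨by have := Mdl.four_le ha hn; omega⟩
  have e1a := congrArg Mdl.a (hq ⟨1, 0, false, false⟩)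
  have e1b := congrArg Mdl.b (hq ⟨1, 0, false, false⟩)
  have e3a := congrArg Mdl.a (hq ⟨0, 0, true, false⟩)
  have e3b := congrArg Mdl.b (hq ⟨0, 0, true, false⟩)
  have e4 := congrArg Mdl.a (hq ⟨0, 0, false, true⟩)
  obtain ⟨qa, qb, qk, ql⟩ := q
  have h11 : (1 : ZMod n) + 1 ≠ 0 := by
    rw [show (1 : ZMod n) + 1 = ((2 : ℕ) : ZMod n) by norm_num, Ne, ZMod.natCast_eq_zero_iff]
    intro h
    have := Nat.le_of_dvd two_pos h
    have := Mdl.four_le ha hn
    omega
  haveI : Nontrivial (ZMod n) := ⟨⟨_, _, h11⟩⟩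
  cases qk <;> cases ql <;> simp [Mdl.mul_def, Mdl.sgn, Mdl.fs] at e1a e1b e3a e3b e4
  · rcases Mdl.eq_zero_or_half h2 (x := qa) (by linear_combination e3a) with h | h
    · exact absurd (by rw [← e4, h, Mdl.one_def]) h1
    · rw [← e4, h]; rfl
  all_goals first
    | exact absurd e1a one_ne_zero
    | exact absurd (by linear_combination -e1a) h11

theorem exists_orderOf_eq {K : Type*} [Field K] [Finite K] (d : ℕ) (hd : d ∣ Nat.card Kˣ) :
    ∃ z : Kˣ, orderOf z = d := by
  obtain ⟨g, hg⟩ := IsCyclic.exists_ofOrder_eq_natCard (α := Kˣ)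
  obtain ⟨e, he⟩ := hd
  have he0 : 0 < e := by
    rcases Nat.eq_zero_or_pos e with rfl | h
    · exact absurd he (by simpa using Nat.card_pos.ne')
    · exact h
  refine ⟨g ^ e, ?_⟩
  rw [orderOf_pow_of_dvd he0.ne' ⟨d, by rw [hg, he, mul_comm]⟩, hg, he, Nat.mul_div_cancel _ he0]

theorem datum_nonempty [Fintype F] (hF : Odd (Fintype.card F)) :
    ∃ (a : ℕ) (_ : 2 ≤ a), Nonempty (Datum F (2 ^ a)) ∧
      ∃ m : ℕ, ¬ 2 ∣ m ∧ Fintype.card F ^ 2 - 1 = 2 * 2 ^ a * m := by
  classical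
  set q := Fintype.card F with hq
  have hq1 : 1 < q := Fintype.one_lt_card
  have hchar : ringChar F ≠ 2 := fun h => by
    have := FiniteField.even_card_of_char_two h
    rw [← hq] at this
    rcases hF with ⟨r, hr⟩
    omega
  have h2 : (2 : F) ≠ 0 := Ring.two_ne_zero hchar
  have hneg : (-1 : Fˣ) ≠ 1 := fun h => h2 (by
    have := congrArg Units.val h
    simp at this
    linear_combination -this)
  obtain ⟨k, hk⟩ := hF
  have hsq : q ^ 2 - 1 = (q - 1) * (q + 1) := by
    rw [show q ^ 2 - 1 = q ^ 2 - 1 ^ 2 by norm_num, Nat.sq_sub_sq, mul_comm]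
  rcases Nat.even_or_odd k with ⟨j, hj⟩ | ⟨j, hj⟩
  · -- `q ≡ 1 (mod 4)`
    obtain ⟨a, m, hm, ham⟩ := Nat.exists_eq_two_pow_mul_odd (n := q - 1) (by omega)
    have ha : 2 ≤ a := by
      by_contra h
      interval_cases a <;> obtain ⟨r, hr⟩ := hm <;> omega
    refine ⟨a, ha, ?_, m * (2 * j + 1), ?_, ?_⟩
    · obtain ⟨g, hg⟩ := exists_orderOf_eq (K := F) (2 ^ a) (by
        rw [Nat.card_units, Nat.card_eq_fintype_card, ← hq, ham]; exact dvd_mul_right _ _)
      have hh : g ^ (2 ^ a / 2) = -1 := by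
        have h1 : (g ^ (2 ^ a / 2)) ^ 2 = 1 := by
          rw [← pow_mul, Nat.div_mul_cancel (dvd_pow_self 2 (by omega)), ← hg, pow_orderOf_eq_one]
        have h2' : g ^ (2 ^ a / 2) ≠ 1 := by
          refine pow_ne_one_of_lt_orderOf ?_ (by rw [hg]; exact Nat.div_lt_self (pow_pos two_pos a) one_lt_two)
          exact Nat.div_ne_zero_iff.2 ⟨two_ne_zero, by have := Nat.pow_le_pow_right two_pos ha; omega⟩
        refine Units.ext ((mul_self_eq_one_iff.1 ?_).resolve_left fun h => h2' (Units.ext h))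
        rw [← Units.val_mul, ← sq, h1, Units.val_one]
      let x : GL (Fin 2) F := ⟨!![(g : F), 0; 0, 1], !![((g⁻¹ : Fˣ) : F), 0; 0, 1],
        by ext i j; fin_cases i <;> fin_cases j <;> simp [Matrix.mul_apply, Fin.sum_univ_two],
        by ext i j; fin_cases i <;> fin_cases j <;> simp [Matrix.mul_apply, Fin.sum_univ_two]⟩
      have hx : ∀ i : ℕ, ((x ^ i : GL (Fin 2) F) : Matrix (Fin 2) (Fin 2) F) = !![(g : F) ^ i, 0; 0, 1] := by
        intro i
        induction i with
        | zero => ext i j; fin_cases i <;> fin_cases j <;> simp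
        | succ i ih =>
          rw [pow_succ, Units.val_mul, ih]
          ext i j; fin_cases i <;> fin_cases j <;> simp [x, Matrix.mul_apply, Fin.sum_univ_two, pow_succ]
      have hgF : ∀ i, (g : F) ^ i = ((g ^ i : Fˣ) : F) := fun i => (Units.val_pow_eq_pow_val g i).symm
      refine ⟨⟨x, 1, g ^ (2 ^ a / 4), by simp [x], ?_, ?_, ?_, ?_, h2⟩⟩
      · refine Units.ext ?_
        rw [hx, coe_sc, hgF, ← hg, pow_orderOf_eq_one]; simp
      · have : GeneralLinearGroup.det x = g := Units.ext (by simp [x, Matrix.det_fin_two])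
        rw [this, hh]
      · rw [mul_one, ← pow_mul, ← hh]
        congr 1
        obtain ⟨b, rfl⟩ : ∃ b, a = b + 2 := ⟨a - 2, by omega⟩
        simp [pow_succ]; omega
      · intro d h
        have e := congrArg (fun z : GL (Fin 2) F => (z : Matrix (Fin 2) (Fin 2) F)) h
        simp only [hx, coe_sc] at e
        have e0 := congrFun (congrFun e 0) 0
        have e1 := congrFun (congrFun e 1) 1
        simp at e0 e1
        rw [hgF, hh, ← e1] at e0
        simp at e0
        exact h2 (by linear_combination -e0)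
    · intro hd
      have := Nat.odd_iff.1 (hm.mul (odd_two_mul_add_one j))
      omega
    · rw [hsq, ham, show q + 1 = 2 * (2 * j + 1) by omega]; ring
  · -- `q ≡ 3 (mod 4)`
    obtain ⟨a, m, hm, ham⟩ := Nat.exists_eq_two_pow_mul_odd (n := q + 1) (by omega)
    have ha : 2 ≤ a := by
      by_contra h
      interval_cases a <;> obtain ⟨r, hr⟩ := hm <;> omega
    refine ⟨a, ha, ?_, m * (2 * j + 1), ?_, ?_⟩
    · obtain ⟨p, _⟩ := CharP.exists F
      haveI : Fact p.Prime := ⟨CharP.char_is_prime F p⟩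
      let E := FiniteField.Extension F p 2
      have hE : Nat.card E = q ^ 2 := by rw [FiniteField.natCard_extension, Nat.card_eq_fintype_card]
      have hdvd : 2 * 2 ^ a ∣ Nat.card Eˣ := by
        rw [Nat.card_units, hE, hsq, ham, show q - 1 = 2 * (2 * j + 1) by omega]
        exact ⟨(2 * j + 1) * m, by ring⟩
      obtain ⟨z, hz⟩ := exists_orderOf_eq (K := E) (2 * 2 ^ a) hdvd
      have hz' : orderOf (z : E) = 2 * 2 ^ a := by rw [orderOf_units, hz]
      have h2E : (2 : E) ≠ 0 := by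
        rw [← map_ofNat (algebraMap F E) 2, Ne, map_eq_zero]; exact h2
      have hzn : (z : E) ^ 2 ^ a = -1 := by
        have h1 : ((z : E) ^ 2 ^ a) * ((z : E) ^ 2 ^ a) = 1 := by
          rw [← pow_add, ← two_mul, ← hz', pow_orderOf_eq_one]
        refine (mul_self_eq_one_iff.1 h1).resolve_left ?_
        exact pow_ne_one_of_lt_orderOf (pow_ne_zero a two_ne_zero) (by rw [hz']; have := Nat.two_pow_pos a; omega)
      have hzq1 : (z : E) ^ (q + 1) = -1 := by rw [ham, pow_mul, hzn]; exact hm.neg_one_pow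
      have hzq : (z : E) ^ q = -(z : E)⁻¹ := by
        rw [pow_succ] at hzq1
        calc (z : E) ^ q = (z : E) ^ q * z * (z : E)⁻¹ := by rw [mul_inv_cancel_right₀ z.ne_zero]
          _ = _ := by rw [hzq1, neg_one_mul]
      have hfix : ∀ b : F, algebraMap F E b ^ q = algebraMap F E b := fun b => by
        rw [← map_pow, hq, FiniteField.pow_card]
      have hinj := (algebraMap F E).injective
      have hzF : ∀ b : F, algebraMap F E b ≠ (z : E) := by
        intro b hb
        have h := hfix b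
        rw [hb, hzq] at h
        have h4 : (z : E) ^ 4 = 1 := by
          have h' := mul_inv_cancel₀ z.ne_zero
          linear_combination (-(z : E) * ((z : E) ^ 2 - 1)) * h - ((z : E) ^ 2 - 1) * h'
        have := Nat.le_of_dvd (by norm_num) (orderOf_dvd_of_pow_eq_one h4)
        rw [hz'] at this
        have := Nat.pow_le_pow_right two_pos ha
        omega
      obtain ⟨T, hT⟩ : ∃ T : F, algebraMap F E T = (z : E) - (z : E)⁻¹ := by
        refine (IsGalois.mem_range_algebraMap_iff_fixed _).2 fun f => ?_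
        obtain ⟨i, hi, rfl⟩ := FiniteField.Extension.exists_frob_pow_eq F p 2 f
        interval_cases i
        · simp
        · rw [pow_one, FiniteField.Extension.frob_apply, Nat.card_eq_fintype_card, ← hq]
          have hsub : ((z : E) - (z : E)⁻¹) ^ q = (z : E) ^ q - ((z : E)⁻¹) ^ q := by
            obtain ⟨e, he, hcard⟩ := FiniteField.card F p
            haveI : CharP E p := charP_of_injective_algebraMap hinj p
            rw [hq, hcard]
            exact sub_pow_char_pow ..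
          rw [hsub, inv_pow, hzq, inv_neg, inv_inv]
          ring
      have hrec : (z : E) * z = 1 + algebraMap F E T * z := by
        rw [hT, sub_mul, inv_mul_cancel₀ z.ne_zero]; ring
      let M : Matrix (Fin 2) (Fin 2) F := !![0, 1; 1, T]
      have hdetM : M.det = -1 := by simp [M, Matrix.det_fin_two]
      let x : GL (Fin 2) F := ⟨M, !![-T, 1; 1, 0],
        by ext i j; fin_cases i <;> fin_cases j <;> simp [M, Matrix.mul_apply, Fin.sum_univ_two],
        by ext i j; fin_cases i <;> fin_cases j <;> simp [M, Matrix.mul_apply, Fin.sum_univ_two]⟩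
      have hk' : ∀ i : ℕ, ∃ b c : F, ((x ^ i : GL (Fin 2) F) : Matrix (Fin 2) (Fin 2) F) = !![b, c; c, b + c * T] ∧
          (z : E) ^ i = algebraMap F E b + algebraMap F E c * z := by
        intro i
        induction i with
        | zero => exact ⟨1, 0, by ext i j; fin_cases i <;> fin_cases j <;> simp, by simp⟩
        | succ i ih =>
          obtain ⟨b, c, h1, h3⟩ := ih
          refine ⟨c, b + c * T, ?_, ?_⟩
          · rw [pow_succ, Units.val_mul, h1]
            ext i j; fin_cases i <;> fin_cases j <;> simp [x, M, Matrix.mul_apply, Fin.sum_univ_two]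
          · rw [pow_succ, h3, add_mul, mul_assoc, hrec, map_add, map_mul]; ring
      have huniq : ∀ b c d : F, algebraMap F E b + algebraMap F E c * z = algebraMap F E d → b = d ∧ c = 0 := by
        intro b c d h
        by_cases hc : c = 0
        · rw [hc, map_zero, zero_mul, add_zero] at h
          exact ⟨hinj h, hc⟩
        · exfalso
          refine hzF ((d - b) / c) ?_
          rw [map_div₀, map_sub, div_eq_iff ((map_ne_zero _).2 hc)]
          linear_combination -h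
      have hdx : GeneralLinearGroup.det x = -1 := Units.ext (by simpa [x] using hdetM)
      refine ⟨⟨x, -1, 1, by simp [x, M], ?_, ?_, by simp, ?_, h2⟩⟩
      · obtain ⟨b, c, h1, h3⟩ := hk' (2 ^ a)
        obtain ⟨rfl, rfl⟩ := huniq b c (-1) (by rw [← h3, hzn, map_neg, map_one])
        refine Units.ext ?_
        rw [h1, coe_sc]
        simp
      · rw [hdx, neg_neg, Even.neg_one_pow]
        obtain ⟨b, rfl⟩ : ∃ b, a = b + 2 := ⟨a - 2, by omega⟩
        exact ⟨2 ^ b, by simp [pow_succ]; omega⟩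
      · intro d h
        obtain ⟨b, c, h1, h3⟩ := hk' (2 ^ a / 2)
        rw [h, coe_sc] at h1
        have h01 := congrFun (congrFun h1 0) 1
        simp at h01
        rw [← h01, map_zero, zero_mul, add_zero] at h3
        have hw := hfix b
        rw [← h3, ← pow_mul, mul_comm, pow_mul, hzq] at hw
        have hev : Even (2 ^ a / 2) := by
          obtain ⟨b, rfl⟩ : ∃ b, a = b + 2 := ⟨a - 2, by omega⟩
          exact ⟨2 ^ b, by simp [pow_succ]; omega⟩
        rw [hev.neg_pow, inv_pow] at hw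
        have h' := mul_inv_cancel₀ (pow_ne_zero (2 ^ a / 2) z.ne_zero)
        rw [hw, ← pow_add, show 2 ^ a / 2 + 2 ^ a / 2 = 2 ^ a by
            have : 2 ∣ 2 ^ a := dvd_pow_self 2 (by omega)
            omega, hzn] at h'
        exact h2E (by linear_combination -h')
    · intro hd
      have := Nat.odd_iff.1 (hm.mul (odd_two_mul_add_one j))
      omega
    · rw [hsq, ham, show q - 1 = 2 * (2 * j + 1) by omega]; ring

theorem sylow_equiv_mdl [Fintype F] (hF : Odd (Fintype.card F)) (P : Sylow 2 (chevG2.group F)) :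
    ∃ (n a : ℕ), 2 ≤ a ∧ n = 2 ^ a ∧ Nonempty ((P : Subgroup (chevG2.group F)) ≃* Mdl n) := by
  classical
  haveI : Fact (Nat.Prime 2) := ⟨Nat.prime_two⟩
  obtain ⟨a, ha, ⟨D⟩, m, hm, hqm⟩ := datum_nonempty hF
  refine ⟨2 ^ a, a, ha, rfl, ?_⟩
  set n := 2 ^ a with hn
  haveI : NeZero n := ⟨pow_ne_zero a two_ne_zero⟩
  have h2 := Mdl.two_dvd ha hn
  let f : Mdl n →* chevG2.group F :=
    (D.emb h2).codRestrict (chevG2.group F) fun v => K_le_group (theta_mem_K _)
  have hfi : Function.Injective f := fun v w h => D.emb_injective ha hn (congrArg Subtype.val h)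
  set H := f.range with hH
  have hcardH : Nat.card H = 4 * (n * n) := by
    rw [hH, ← Nat.card_congr (MonoidHom.ofInjective hfi).toEquiv, Mdl.card_eq]
  have hH2 : IsPGroup 2 H := IsPGroup.of_card (n := 2 + (a + a)) (by rw [hcardH, hn]; ring)
  obtain ⟨P1, hP1⟩ := hH2.exists_le_sylow
  set t : chevG2.group F := f (Mdl.z n) with ht
  have htb : (t : GL chevG2.Idx F) = base := D.emb_z ha hn
  have hto : orderOf t = 2 := by
    rw [ht, orderOf_injective f hfi, orderOf_eq_prime_iff, sq]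
    refine ⟨(Mdl.sq_eq_one_iff_A ⟨rfl, rfl⟩).2 ⟨Mdl.two_half h2, Mdl.two_half h2⟩, fun h => ?_⟩
    exact Mdl.half_ne_zero h2 (congrArg Mdl.a h)
  have hshape := (centShape D.hchar t hto).1
  suffices heq : H = P1 by
    exact ⟨((P.equiv P1).trans (MulEquiv.subgroupCongr heq.symm)).trans (MonoidHom.ofInjective hfi).symm⟩
  -- otherwise the normalizer of `H` in a larger 2-group centralises `t`
  by_contra hne
  have hlt : H < (P1 : Subgroup (chevG2.group F)) := lt_of_le_of_ne hP1 hne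
  haveI : Group.IsNilpotent (P1 : Subgroup (chevG2.group F)) := P1.2.isNilpotent
  set H' := H.subgroupOf (P1 : Subgroup (chevG2.group F)) with hH'
  have hH'top : H' < ⊤ := lt_top_iff_ne_top.2 fun h => hlt.not_ge fun x hx => by
    have : (⟨x, hx⟩ : (P1 : Subgroup (chevG2.group F))) ∈ H' := h ▸ Subgroup.mem_top _
    exact this
  have hN := Group.normalizerCondition_of_isNilpotent H' hH'top
  obtain ⟨g, hg, hgH⟩ := SetLike.exists_of_lt hN
  have hgH0 : (g : chevG2.group F) ∉ H := hgH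
  have hgC : (g : chevG2.group F) * t * (g : chevG2.group F)⁻¹ = t := by
    obtain ⟨v, hv⟩ : (g : chevG2.group F) * t * (g : chevG2.group F)⁻¹ ∈ H :=
      (Subgroup.mem_normalizer_iff.1 hg ⟨t, hP1 ⟨_, rfl⟩⟩).1 ⟨_, rfl⟩
    rw [← hv]
    refine congrArg f (eq_z_of_central ha hn (fun p => hfi ?_) fun h => ?_)
    · rw [map_mul, map_mul, hv]
      obtain ⟨p', hp'⟩ : (g : chevG2.group F)⁻¹ * f p * g ∈ H := by
        have := (Subgroup.mem_normalizer_iff.1 (Subgroup.inv_mem _ hg) ⟨f p, hP1 ⟨_, rfl⟩⟩).1 ⟨_, rfl⟩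
        simpa [H', Subgroup.mem_subgroupOf] using this
      have hp : f p = g * f p' * (g : chevG2.group F)⁻¹ := by rw [hp']; group
      have hz : Mdl.z n * p' = p' * Mdl.z n := by
        ext <;> simp [Mdl.z, Mdl.mul_def, Mdl.sgn, Mdl.fs]
        all_goals rcases Bool.eq_false_or_eq_true p'.k with hk | hk <;>
          rcases Bool.eq_false_or_eq_true p'.l with hl | hl <;>
          simp [hk, hl, neg_eq_of_add_eq_zero_left (Mdl.two_half h2), add_comm]
      have hz' : t * f p' = f p' * t := by rw [ht, ← map_mul, ← map_mul, hz]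
      rw [hp]
      calc _ = (g : chevG2.group F) * (t * f p') * (g : chevG2.group F)⁻¹ := by group
        _ = (g : chevG2.group F) * (f p' * t) * (g : chevG2.group F)⁻¹ := by rw [hz']
        _ = _ := by group
    · rw [h, map_one, eq_comm, mul_inv_eq_one, mul_eq_left] at hv
      rw [hv, orderOf_one] at hto
      omega
  -- the 2-group generated by `H` and `g` lies in the centralizer of `t`
  set M := H ⊔ Subgroup.zpowers (g : chevG2.group F) with hM
  have hMC : M ≤ Subgroup.centralizer ({t} : Set (chevG2.group F)) := by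
    refine sup_le ?_ (Subgroup.zpowers_le.2 (Subgroup.mem_centralizer_singleton_iff.2 (mul_inv_eq_iff_eq_mul.1 hgC)))
    rintro _ ⟨v, rfl⟩
    rw [Subgroup.mem_centralizer_singleton_iff]
    refine Subtype.ext ?_
    have := K_le_centralizer (theta_mem_K (D.rep v))
    rw [Subgroup.mem_centralizer_singleton_iff] at this
    rw [Subgroup.coe_mul, Subgroup.coe_mul, htb]
    exact this
  have hMP : M ≤ P1 := sup_le hP1 (Subgroup.zpowers_le.2 g.2)
  obtain ⟨e, he⟩ := IsPGroup.iff_card.1 (P1.2.to_le hMP)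
  have hbig : 4 * (n * n) < 2 ^ e := by
    rw [← he, ← hcardH]
    refine lt_of_le_of_ne (Subgroup.card_le_of_le le_sup_left) fun hc => hgH0 ?_
    have heq : H = M := Subgroup.eq_of_le_of_card_ge le_sup_left hc.ge
    rw [heq]
    exact Subgroup.mem_sup_right (Subgroup.mem_zpowers _)
  have hdvd := Subgroup.card_dvd_of_le hMC
  rw [he, hshape, hqm, show Fintype.card F ^ 2 * (2 * n * m) ^ 2 = 2 ^ (2 + (a + a)) * (Fintype.card F ^ 2 * m ^ 2) by
    rw [hn]; ring] at hdvd
  have hodd : Nat.Coprime (2 ^ e) (Fintype.card F ^ 2 * m ^ 2) := by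
    refine Nat.Coprime.pow_left e (Nat.Coprime.mul_right (Nat.Coprime.pow_right 2 ?_) (Nat.Coprime.pow_right 2 ?_))
    · exact (Nat.prime_two.coprime_iff_not_dvd).2 (by rcases hF with ⟨r, hr⟩; omega)
    · exact (Nat.prime_two.coprime_iff_not_dvd).2 hm
  have := Nat.le_of_dvd (pow_pos two_pos _) (hodd.dvd_of_dvd_mul_right hdvd)
  rw [show 4 * (n * n) = 2 ^ (2 + (a + a)) by rw [hn]; ring] at hbig
  omega

end Cfsg.Agent.G2Fusion
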