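import Mathlib.GroupTheory.Transfer
import Mathlib.GroupTheory.Sylow
import Mathlib.Data.ZMod.Basic

/-!
# A transfer to a group of order two, evaluated through the centralizer

For a `2`-element `u`, a `2`-group `Q` centralising `u` and containing it permutes the orbits of
`u` on the cosets of a Sylow 2-subgroup; only the orbits fixed by `Q` matter modulo two.
-/

set_option autoImplicit false
set_option linter.style.haveILetI false
set_option linter.unusedSectionVars false

namespace Cfsg.Agent.G2Fusion

open MulAction Subgroup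

variable {G : Type*} [Group G] [Finite G] (S : Sylow 2 G)
  (φ : (S : Subgroup G) →* Multiplicative (ZMod 2)) (u : G)

local notation "Ω" => G ⧸ (S : Subgroup G)

/-- The contribution of a point to the transfer. -/
noncomputable def contrib (c : Ω) : Multiplicative (ZMod 2) :=
  φ ⟨c.out⁻¹ * u ^ Function.minimalPeriod (u • ·) c * c.out,
    QuotientGroup.out_conj_pow_minimalPeriod_mem (S : Subgroup G) u c⟩

theorem map_congr {a b : G} (ha : a ∈ (S : Subgroup G)) (hb : b ∈ (S : Subgroup G)) (h : a = b) :
    φ ⟨a, ha⟩ = φ ⟨b, hb⟩ := by subst h; rfl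

theorem period_smul {d : G} (hd : d * u = u * d) (c : Ω) :
    Function.minimalPeriod (u • ·) (d • c) = Function.minimalPeriod (u • ·) c := by
  refine Function.minimalPeriod_eq_minimalPeriod_iff.2 fun k => ?_
  simp only [Function.IsPeriodicPt, Function.IsFixedPt, smul_iterate_apply]
  rw [smul_smul, ← (Commute.pow_right (show Commute d u from hd) k).eq, ← smul_smul]
  exact (MulAction.injective d).eq_iff

theorem contrib_smul {d : G} (hd : d * u = u * d) (c : Ω) :
    contrib S φ u (d • c) = contrib S φ u c := by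
  have e : ((d * c.out : G) : Ω) = d • c := by
    conv_rhs => rw [← QuotientGroup.out_eq' c]
    rfl
  obtain ⟨s, hs⟩ := QuotientGroup.mk_out_eq_mul (S : Subgroup G) (d * c.out)
  rw [e] at hs
  have hm := period_smul S u hd c
  set m := Function.minimalPeriod (u • ·) c
  have hc := QuotientGroup.out_conj_pow_minimalPeriod_mem (S : Subgroup G) u c
  have hcd : d⁻¹ * u ^ m * d = u ^ m := by
    rw [mul_assoc, ← (Commute.pow_right (show Commute d u from hd) m).eq, inv_mul_cancel_left]
  unfold contrib
  have e2 : (d • c).out⁻¹ * u ^ Function.minimalPeriod (u • ·) (d • c) * (d • c).out =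
      (s : G)⁻¹ * (c.out⁻¹ * u ^ m * c.out) * s := by
    rw [hm, hs, mul_inv_rev, mul_inv_rev]
    calc (s : G)⁻¹ * (c.out⁻¹ * d⁻¹) * u ^ m * (d * c.out * s)
        = (s : G)⁻¹ * (c.out⁻¹ * (d⁻¹ * u ^ m * d) * c.out) * s := by group
      _ = _ := by rw [hcd]
  rw [map_congr S φ _ (mul_mem (mul_mem (inv_mem s.2) hc) s.2) e2]
  show φ (s⁻¹ * ⟨_, hc⟩ * s) = _
  rw [map_mul, map_mul, map_inv, mul_comm (φ s)⁻¹, inv_mul_cancel_right]

/-- The class of a point. -/
abbrev cls (c : Ω) : Quotient (orbitRel (zpowers u) Ω) := Quotient.mk'' c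

theorem contrib_out (c : Ω) : contrib S φ u (cls S u c).out = contrib S φ u c := by
  have h : (cls S u c).out ∈ orbit (zpowers u) c :=
    Quotient.exact' (Quotient.out_eq' (cls S u c))
  obtain ⟨⟨z, k, rfl⟩, hz⟩ := h
  rw [← hz]
  exact contrib_smul S φ u ((Commute.refl u).zpow_left k).eq c

theorem eq_ofAdd_one {x : Multiplicative (ZMod 2)} (h : x ≠ 1) : x = Multiplicative.ofAdd 1 := by
  revert h; revert x; decide

/-- The transfer does not vanish at `u` when it is non-trivial at every `Q`-fixed coset and trivial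
at the larger orbits fixed by `Q`. -/
theorem exists_hom_ne_one (hu : ∃ k, orderOf u = 2 ^ k) (Q : Subgroup G) (hQ : IsPGroup 2 Q)
    (huQ : u ∈ Q) (hcent : ∀ a ∈ Q, a * u = u * a)
    (hfix : ∀ g : G, (∀ a ∈ Q, g⁻¹ * a * g ∈ (S : Subgroup G)) →
      ∀ h : g⁻¹ * u * g ∈ (S : Subgroup G), φ ⟨_, h⟩ ≠ 1)
    (hper : ∀ (g : G) (i : ℕ), 0 < i → u ^ 2 ^ i ≠ 1 →
      Nat.card Q ≤ 2 ^ i * Nat.card {a : Q // g⁻¹ * (a : G) * g ∈ (S : Subgroup G)} →
      ∀ h : g⁻¹ * u ^ 2 ^ i * g ∈ (S : Subgroup G), φ ⟨_, h⟩ = 1) :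
    ∃ f : G →* Multiplicative (ZMod 2), f u ≠ 1 := by
  classical
  haveI : Fact (Nat.Prime 2) := ⟨Nat.prime_two⟩
  haveI : Fintype (Quotient (orbitRel (zpowers u) Ω)) := Fintype.ofFinite _
  refine ⟨MonoidHom.transfer φ, ?_⟩
  rw [MonoidHom.transfer_eq_prod_quotient_orbitRel_zpowers_quot]
  change ∏ q : Quotient (orbitRel (zpowers u) Ω), contrib S φ u q.out ≠ 1
  -- the action of `Q` on the orbits
  have hmap : ∀ a : Q, ∀ c c' : Ω, orbitRel (zpowers u) Ω c c' →
      orbitRel (zpowers u) Ω ((a : G) • c) ((a : G) • c') := by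
    rintro a c c' ⟨⟨z, k, rfl⟩, rfl⟩
    refine ⟨⟨u ^ k, k, rfl⟩, ?_⟩
    show (u ^ k) • (a : G) • c' = (a : G) • (u ^ k) • c'
    rw [smul_smul, smul_smul, ((show Commute (a : G) u from hcent a a.2).zpow_right k).eq]
  letI : MulAction Q (Quotient (orbitRel (zpowers u) Ω)) :=
    { smul := fun a => Quotient.map' (fun c => (a : G) • c) (hmap a)
      one_smul := fun q => Quotient.inductionOn' q fun c => congrArg Quotient.mk'' (one_smul G c)
      mul_smul := fun a b q =>
        Quotient.inductionOn' q fun c => congrArg Quotient.mk'' (mul_smul (a : G) (b : G) c) }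
  have hval : ∀ (a : Q) (q : Quotient (orbitRel (zpowers u) Ω)), contrib S φ u (a • q).out = contrib S φ u q.out := by
    intro a q
    refine Quotient.inductionOn' q fun c => ?_
    show contrib S φ u (cls S u ((a : G) • c)).out = contrib S φ u (cls S u c).out
    rw [contrib_out, contrib_out, contrib_smul S φ u (hcent a a.2)]
  let T := {q : Quotient (orbitRel (zpowers u) Ω) // contrib S φ u q.out ≠ 1}
  letI : MulAction Q T :=
    { smul := fun a q => ⟨a • q.1, by rw [hval]; exact q.2⟩
      one_smul := fun q => Subtype.ext (one_smul Q q.1)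
      mul_smul := fun a b q => Subtype.ext (mul_smul a b q.1) }
  -- a fixed orbit with non-trivial value is a single fixed coset
  have hone : ∀ q : T, q ∈ fixedPoints Q T → ∀ a : Q, (a : G) • q.1.out = q.1.out := by
    intro q hq a
    set c := q.1.out with hc
    set m := Function.minimalPeriod (u • ·) c with hm
    have horb : ∀ b : Q, ((b : G) • c) ∈ orbit (zpowers u) c := by
      intro b
      have h1 := congrArg Subtype.val (hq b)
      change b • q.1 = q.1 at h1
      rw [← Quotient.out_eq' q.1] at h1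
      exact Quotient.exact' h1
    have hmc : m = Nat.card (orbit (zpowers u) c) := by
      rw [hm]
      exact ((Nat.card_congr (orbitZPowersEquiv u c)).trans (Nat.card_zmod _)).symm
    obtain ⟨k, hk⟩ := hu
    have hdvd : m ∣ orderOf u := by
      refine Function.IsPeriodicPt.minimalPeriod_dvd ?_
      rw [Function.IsPeriodicPt, Function.IsFixedPt, smul_iterate_apply, pow_orderOf_eq_one, one_smul]
    obtain ⟨i, -, hi⟩ := (Nat.dvd_prime_pow Nat.prime_two).1 (hk ▸ hdvd)
    rcases Nat.eq_zero_or_pos i with rfl | hi0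
    · have h1 : Nat.card (orbit (zpowers u) c) = 1 := by rw [← hmc, hi, pow_zero]
      haveI := (Nat.card_eq_one_iff_unique.1 h1).1
      exact congrArg Subtype.val (Subsingleton.elim (α := orbit (zpowers u) c) ⟨_, horb a⟩
        ⟨c, mem_orbit_self c⟩)
    · exfalso
      refine q.2 ?_
      show contrib S φ u c = 1
      by_cases hu1 : u ^ 2 ^ i = 1
      · have hmem := QuotientGroup.out_conj_pow_minimalPeriod_mem (S : Subgroup G) u c
        rw [contrib, map_congr S φ hmem (one_mem _)
          (by rw [← hm, hi, hu1, mul_one, inv_mul_cancel])]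
        exact map_one φ
      · have hmem := QuotientGroup.out_conj_pow_minimalPeriod_mem (S : Subgroup G) u c
        rw [← hm, hi] at hmem
        rw [contrib, map_congr S φ _ hmem (by rw [← hm, hi])]
        refine hper c.out i hi0 hu1 ?_ hmem
        have hst := Subgroup.card_mul_index (stabilizer Q c)
        rw [index_stabilizer] at hst
        have hle : (orbit Q c).ncard ≤ 2 ^ i := by
          rw [← hi, hmc, Nat.card_coe_set_eq]
          exact Set.ncard_le_ncard (by rintro _ ⟨b, rfl⟩; exact horb b) (Set.toFinite _)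
        have hcard : Nat.card (stabilizer Q c) =
            Nat.card {a : Q // c.out⁻¹ * (a : G) * c.out ∈ (S : Subgroup G)} := by
          refine Nat.card_congr (Equiv.subtypeEquivRight fun b => ?_)
          rw [mem_stabilizer_iff]
          show (b : G) • c = c ↔ _
          conv_lhs => rw [← QuotientGroup.out_eq' c]
          change (((b : G) * c.out : G) : Ω) = ((c.out : G) : Ω) ↔ _
          rw [eq_comm, QuotientGroup.eq, mul_assoc]
        rw [← hst, hcard, mul_comm]
        exact Nat.mul_le_mul_right _ hle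
  have hfixone : ∀ c : Ω, c ∈ fixedPoints Q Ω → contrib S φ u c ≠ 1 := by
    intro c hc
    have h1 : Function.minimalPeriod (u • ·) c = 1 :=
      Function.minimalPeriod_eq_one_iff_isFixedPt.2 (hc ⟨u, huQ⟩)
    have hmem : ∀ a ∈ Q, c.out⁻¹ * a * c.out ∈ (S : Subgroup G) := by
      intro a ha
      have h2 : a • c = c := hc ⟨a, ha⟩
      rw [← QuotientGroup.out_eq' c] at h2
      change ((a * c.out : G) : Ω) = ((c.out : G) : Ω) at h2
      rw [eq_comm, QuotientGroup.eq, ← mul_assoc] at h2
      exact h2
    have := hfix c.out hmem (hmem u huQ)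
    rw [contrib, map_congr S φ _ (hmem u huQ) (by rw [h1, pow_one])]
    exact this
  have hcount : Nat.card (fixedPoints Q T) = Nat.card (fixedPoints Q Ω) := by
    refine Nat.card_congr (Equiv.ofBijective
      (fun q => ⟨q.1.1.out, fun a => hone q.1 q.2 a⟩) ⟨?_, ?_⟩)
    · intro q q' h
      refine Subtype.ext (Subtype.ext ?_)
      have := congrArg Subtype.val h
      simpa using congrArg (cls S u) this
    · intro c
      have hq : contrib S φ u (cls S u c.1).out ≠ 1 := by rw [contrib_out]; exact hfixone c.1 c.2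
      refine ⟨⟨⟨cls S u c.1, hq⟩, fun a => Subtype.ext ?_⟩, Subtype.ext ?_⟩
      · show cls S u ((a : G) • c.1) = cls S u c.1
        exact congrArg (cls S u) (c.2 a)
      · show (cls S u c.1).out = c.1
        obtain ⟨⟨z, k, rfl⟩, hz⟩ : (cls S u c.1).out ∈ orbit (zpowers u) c.1 :=
          Quotient.exact' (Quotient.out_eq' (cls S u c.1))
        rw [← hz]
        exact c.2 ⟨u ^ k, Q.zpow_mem huQ k⟩
  have hodd : Nat.card T % 2 = 1 := by
    have h1 := hQ.card_modEq_card_fixedPoints T
    have h2 := hQ.card_modEq_card_fixedPoints Ω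
    rw [hcount] at h1
    rw [Nat.ModEq] at h1 h2
    rw [h1, ← h2]
    have := S.not_dvd_index
    rw [Subgroup.index] at this
    omega
  rw [← Finset.prod_filter_ne_one, Finset.prod_congr rfl
    (fun q hq => eq_ofAdd_one (Finset.mem_filter.1 hq).2), Finset.prod_const]
  have hT : Nat.card T = (Finset.univ.filter fun q : Quotient (orbitRel (zpowers u) Ω) =>
      contrib S φ u q.out ≠ 1).card := by
    rw [Nat.card_eq_fintype_card, Fintype.card_subtype]
  rw [← hT, ← Nat.div_add_mod (Nat.card T) 2, hodd, pow_succ, pow_mul,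
    show (Multiplicative.ofAdd (1 : ZMod 2)) ^ 2 = 1 by decide, one_pow, one_mul]
  decide

/-- The extremal form of the Thompson transfer lemma. -/
theorem exists_extremal (h : ∀ f : G →* Multiplicative (ZMod 2), f = 1) (hu2 : orderOf u = 2)
    :
    ∃ v : G, ∃ hv : v ∈ (S : Subgroup G), IsConj u v ∧ φ ⟨v, hv⟩ = 1 ∧
      ∀ w : G, IsConj u w → w ∈ (S : Subgroup G) →
        Nat.card {s : (S : Subgroup G) // (s : G) * w = w * s} ≤
          Nat.card {s : (S : Subgroup G) // (s : G) * v = v * s} := by
  classical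
  haveI : Fact (Nat.Prime 2) := ⟨Nat.prime_two⟩
  have hz : IsPGroup 2 (zpowers u) :=
    IsPGroup.of_card (n := 1) (by rw [Nat.card_zpowers, hu2, pow_one])
  have huC : u ∈ centralizer ({u} : Set G) := mem_centralizer_singleton_iff.2 rfl
  obtain ⟨P, hP⟩ := (hz.comap_subtype (K := centralizer ({u} : Set G))).exists_le_sylow
  set Q := (P : Subgroup (centralizer ({u} : Set G))).map (centralizer ({u} : Set G)).subtype with hQd
  have huQ : u ∈ Q := ⟨⟨u, huC⟩, hP (mem_subgroupOf.2 (mem_zpowers u)), rfl⟩
  have hcent : ∀ a ∈ Q, a * u = u * a := by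
    rintro a ⟨a', -, rfl⟩
    exact mem_centralizer_singleton_iff.1 a'.2
  have hQp : IsPGroup 2 Q := P.2.map _
  by_contra hno
  push Not at hno
  refine (exists_hom_ne_one S φ u ⟨1, by rw [hu2, pow_one]⟩ Q hQp huQ hcent ?_ ?_).elim
    fun f hf => hf (by rw [h f]; rfl)
  · intro g hg hgm hv1
    obtain ⟨w, hw, hwS, hlt⟩ := hno _ hgm (isConj_iff.2 ⟨g⁻¹, by group⟩) hv1
    refine absurd hlt (not_lt.2 ?_)
    calc Nat.card {s : (S : Subgroup G) // (s : G) * w = w * s}
        ≤ Nat.card Q := ?_
      _ ≤ _ := Nat.card_le_card_of_injective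
          (fun a : Q => ⟨⟨g⁻¹ * a * g, hg a a.2⟩, by
            show g⁻¹ * (a : G) * g * (g⁻¹ * u * g) = g⁻¹ * u * g * (g⁻¹ * a * g)
            calc g⁻¹ * (a : G) * g * (g⁻¹ * u * g) = g⁻¹ * ((a : G) * u) * g := by group
              _ = g⁻¹ * (u * a) * g := by rw [hcent a a.2]
              _ = _ := by group⟩)
          (fun a b hab => Subtype.ext (mul_left_cancel (mul_right_cancel
            (congrArg Subtype.val (congrArg Subtype.val hab)))))
    obtain ⟨x, hx⟩ := isConj_iff.1 hw
    let R : Subgroup G := (S : Subgroup G) ⊓ centralizer {w}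
    have hRp : IsPGroup 2 R := S.2.to_inf_left
    let R' := R.map (MulAut.conj x⁻¹).toMonoidHom
    have hR'C : R' ≤ centralizer ({u} : Set G) := by
      rintro _ ⟨r, hr, rfl⟩
      rw [mem_centralizer_singleton_iff]
      have hrw := mem_centralizer_singleton_iff.1 hr.2
      simp only [MulEquiv.coe_toMonoidHom, MulAut.conj_apply]
      rw [show u = x⁻¹ * w * x by rw [← hx]; group]
      calc x⁻¹ * r * x⁻¹⁻¹ * (x⁻¹ * w * x) = x⁻¹ * (r * w) * x := by group
        _ = x⁻¹ * (w * r) * x := by rw [hrw]
        _ = _ := by group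
    obtain ⟨P', hP'⟩ := ((hRp.map (MulAut.conj x⁻¹).toMonoidHom).comap_subtype
      (K := centralizer ({u} : Set G))).exists_le_sylow
    calc Nat.card {s : (S : Subgroup G) // (s : G) * w = w * s}
        ≤ Nat.card R := Nat.card_le_card_of_injective
          (fun s => ⟨s.1.1, s.1.2, mem_centralizer_singleton_iff.2 s.2⟩)
          (fun a b hab => Subtype.ext (Subtype.ext (congrArg (fun t : R => (t : G)) hab)))
      _ = Nat.card R' := (card_map_of_injective (MulAut.conj x⁻¹).injective).symm
      _ = Nat.card (R'.subgroupOf (centralizer ({u} : Set G))) :=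
          (Nat.card_congr (subgroupOfEquivOfLe hR'C).toEquiv).symm
      _ ≤ Nat.card (P' : Subgroup (centralizer ({u} : Set G))) := card_le_of_le hP'
      _ = Nat.card (P : Subgroup (centralizer ({u} : Set G))) := Nat.card_congr (P'.equiv P).toEquiv
      _ = Nat.card Q := (card_map_of_injective (subtype_injective _)).symm
  · intro g i hi hne
    exact absurd (by
      rw [← orderOf_dvd_iff_pow_eq_one, hu2]
      exact dvd_pow_self 2 hi.ne') hne

end Cfsg.Agent.G2Fusion
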